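import Cfsg.Agent.HN.CentBound

set_option autoImplicit false

/-!
# ORE (S2443), row `HN`, piece (D) (helper789): `|C(x)| ≤ 5760` for the element `x` of order 4 of `H0 = 2.HS:2`

`card_gx`: the element `x = gx` (`x² = τ` is the central involution) has at least `30800` conjugates in `H0`.
They are counted by the image of the point `0` of the 100 points (`22 * 560 + 77 * 240 = 30800`).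
-/

namespace Cfsg.Agent.H789.Ore.HNgx

open Cfsg.Agent.HN.Pres Cfsg.Agent.HN.HS100 Cfsg.Agent.HN.P1408 Cfsg.Agent.HN.CentBound
open Cfsg.Agent.HN.H0Basic Equiv

/-- the word of the conjugate of `x` by the word `c` -/
def cw (c : List ℕ) : List ℕ := c ++ [0] ++ iw c

/-- the key of an element: the images of three of the 1408 points -/
def key (a : List ℕ) : ℕ :=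
  Nat.add (tr a 670) (Nat.mul 2048 (Nat.add (tr a 78) (Nat.mul 2048 (tr a 173))))

/-- the keys of the conjugates given by the words of the list are increasing -/
def incr (L : List (List ℕ)) : ℕ → Bool :=
  List.rec (fun _ => true) (fun c _ ih k => Bool.rec false (ih (key (cw c))) (Nat.blt k (key (cw c)))) L

/-- all words of the list have letters at most 4 and give conjugates with image `q` of the point `0` -/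
def chkL (q : ℕ) (L : List (List ℕ)) : Bool :=
  List.rec true (fun c _ ih => Bool.rec false (Bool.rec false ih (Nat.beq (tl (cw c) 0) q)) (okw c)) L

/-- all words of the list fix the point `0` -/
def chkR (R : List (List ℕ)) : Bool :=
  List.rec true (fun c _ ih => Bool.rec false ih (Nat.beq (tl c 0) 0)) R

/-- words (neighbours) -/
def L1 : List (List ℕ) :=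
  [[4, 2, 4, 2, 4, 3, 4, 3, 0, 3, 4, 3], [2, 0, 2, 2, 0, 3, 3], [4, 0, 2, 2, 2, 0, 3, 4, 3, 4], [4, 2, 4, 2, 4,
  3, 4, 3, 0, 3, 4, 3, 4], [2, 0, 2, 2, 0, 3, 3, 4], [4, 0, 2, 2, 2, 0, 3, 4, 3], [4, 3, 4, 0, 2, 2, 2, 0, 2, 2,
  0, 2], [0, 2, 4, 0, 2, 2, 0, 2, 2, 2, 4, 0, 2, 2, 4], [0, 3, 3, 0, 2, 4, 2], [2, 4, 3, 3, 4, 3, 4, 2, 4, 0, 2,
  2], [3, 0, 2, 2, 4, 0, 3, 4, 2, 2, 4, 2], [4, 3, 4, 0, 2, 2, 2, 0, 2, 2, 0, 2, 4], [0, 2, 4, 0, 2, 2, 0, 2, 2,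
  2, 4, 0, 2, 2], [0, 3, 3, 0, 2, 4, 2, 4], [2, 4, 3, 3, 4, 3, 4, 2, 4, 0, 2, 2, 4], [3, 0, 2, 2, 4, 0, 3, 4, 2,
  2, 4, 2, 4], [2, 2, 4, 2, 2, 2, 4, 0, 2], [0, 2, 4, 2, 2, 4, 2, 4, 2, 4, 2, 4], [2, 2, 4, 2, 2, 2, 4, 0, 2,
  4], [0, 2, 4, 2, 2, 4, 2, 4, 2, 4, 2], [4, 3, 3, 4, 3, 0, 3, 3, 0, 2, 2, 4], [0, 3, 0, 2, 2, 0, 2, 0, 2, 2, 0,
  2], [4, 3, 0, 2, 4, 2, 2, 4, 3, 4, 0, 2, 2, 4], [3, 4, 0, 3, 0, 3, 3, 4, 0, 2, 2, 0, 2, 2, 4], [4, 3, 4, 3, 3,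
  0, 3, 3, 4], [3, 0, 2, 2, 0, 2, 2, 0, 3, 3], [3, 4, 0, 3, 0, 3, 3, 4, 0, 2, 2, 0, 2, 2], [3, 0, 2, 2, 0, 2, 2,
  0, 3, 3, 4], [4, 3, 4, 3, 3, 0, 3, 3], [0, 3, 0, 2, 4, 2, 2, 0, 2, 2], [0, 3, 0, 3, 4, 3, 3, 0, 3, 3], [4, 3,
  4, 3, 3, 0, 2, 2, 0, 2, 4, 2], [0, 3, 0, 2, 4, 2, 2, 0, 2, 2, 4], [0, 3, 0, 3, 4, 3, 3, 0, 3, 3, 4], [4, 3, 4,
  3, 3, 0, 2, 2, 0, 2, 4, 2, 4], [4, 2, 0, 2, 2, 0, 3, 3], [0, 2, 2, 2, 0, 3, 4, 3, 4], [2, 4, 2, 4, 3, 4, 3, 0,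
  3, 4, 3], [0, 2, 2, 2, 0, 3, 4, 3], [4, 2, 0, 2, 2, 0, 3, 3, 4], [2, 4, 2, 4, 3, 4, 3, 0, 3, 4, 3, 4], [2, 0,
  2, 4, 0, 2, 2, 2, 0, 2, 2], [2, 4, 2, 4, 0, 3, 0, 3, 3], [2, 0, 2, 4, 0, 2, 2, 2, 0, 2, 2, 4], [2, 4, 2, 4, 0,
  3, 0, 3, 3, 4], [4, 3, 3, 4, 3, 0, 3, 3, 0, 2, 2], [0, 3, 0, 2, 2, 0, 2, 0, 2, 2, 0, 2, 4], [4, 3, 0, 2, 4, 2,
  2, 4, 3, 4, 0, 2, 2], [4, 2, 4, 0, 2, 2, 0, 3, 3, 4, 0, 3, 3], [3, 0, 2, 4, 2, 4, 0, 2, 2], [4, 2, 4, 0, 2, 2,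
  0, 3, 3, 4, 0, 3, 3, 4], [3, 0, 2, 4, 2, 4, 0, 2, 2, 4], [2, 4, 0, 2, 2, 0, 3, 4, 3, 4, 0, 3, 3, 4], [4, 2, 4,
  0, 2, 2, 4], [2, 4, 0, 3, 4, 2, 2, 4, 2, 4], [2, 2, 4, 2, 2, 4, 2, 0, 3, 4, 2, 2], [2, 4, 0, 2, 2, 0, 3, 4, 3,
  4, 0, 3, 3], [4, 2, 4, 0, 2, 2], [2, 4, 0, 3, 4, 2, 2, 4, 2], [2, 2, 4, 2, 2, 4, 2, 0, 3, 4, 2, 2, 4], [2, 0,
  2, 0, 3, 3, 0, 3, 4, 3, 4, 3, 4], [4, 3], [0, 3, 4, 3, 4, 3, 4, 3, 3, 0, 3], [2, 4, 0, 2, 0, 2, 2, 2, 0, 2, 2,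
  0, 2], [0, 2, 4, 2, 2, 0, 2, 0, 2, 2, 2], [0, 2, 4, 2, 4, 2, 2, 0, 2, 4], [4, 2, 4, 2, 2, 2, 4, 0, 3, 0, 3, 3,
  4], [0, 2, 4, 2, 4, 2, 2, 0, 2], [4, 2, 4, 2, 2, 2, 4, 0, 3, 0, 3, 3], [4, 3, 0, 2, 2, 4, 3, 3, 4, 3, 3], [4,
  0, 3, 0, 3, 3, 4, 2, 2, 2, 4], [3, 0, 2, 4, 2, 2, 4, 3, 4, 0, 2, 2], [4, 2, 2, 4, 3, 3, 4, 3], [0, 2, 4, 3, 4,
  3, 3, 4, 3, 3, 4], [2, 0, 3, 3, 0, 3, 3, 4], [2, 0, 2, 4, 0, 2, 2, 2, 0, 2, 4, 2], [0, 2, 4, 3, 4, 3, 3, 4, 3,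
  3], [2, 0, 3, 3, 0, 3, 3], [2, 0, 2, 4, 0, 2, 2, 2, 0, 2, 4, 2, 4], [2, 0, 3, 3, 4, 3, 4, 2, 2, 2], [4, 3, 3,
  4, 3, 4, 3, 4, 2, 2, 0, 2, 4], [2, 0, 3, 3, 4, 3, 4, 2, 2, 2, 4], [4, 3, 3, 4, 3, 4, 3, 4, 2, 2, 0, 2], [4, 2,
  2, 4, 2, 2, 2, 4], [4, 0, 2, 2, 0, 2, 2, 0, 2], [2, 4, 0, 3, 0, 3, 3, 0, 3, 3, 4, 3, 4], [2, 2, 4, 3, 4, 0, 2,
  2], [2, 0, 3, 3, 0, 3, 4, 3, 4], [2, 4, 2, 4, 0, 3, 0, 3, 4, 3], [3, 0, 2, 2, 4, 2, 2, 0, 2, 2], [2, 0, 3, 3,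
  0, 3, 4, 3], [2, 4, 2, 4, 0, 3, 0, 3, 4, 3, 4], [3, 0, 2, 2, 4, 2, 2, 0, 2, 2, 4], [3, 0, 3, 3, 4, 3, 3, 4, 0,
  2, 4], [2, 4, 0, 2, 4, 2, 4, 2, 2, 0, 2, 2], [4, 3, 3, 4, 3, 0, 3, 4, 3, 0, 2, 2, 2, 4], [3, 3, 4, 3, 0, 3, 3,
  0, 2, 2, 0, 2, 4], [4, 3, 3, 4, 3, 0, 3, 4, 3, 0, 2, 2, 2], [3, 3, 4, 3, 0, 3, 3, 0, 2, 2, 0, 2], [2, 4, 2, 2,
  0, 2, 2, 4], [4, 2, 2, 4, 0, 2, 4, 2, 0, 2, 2], [3, 4, 3, 3, 0, 2, 2, 0, 2, 4, 2, 4], [2, 0, 2, 0, 3, 3, 0, 3,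
  4, 3, 4, 3], [4, 3, 4], [0, 3, 4, 3, 4, 3, 4, 3, 3, 0, 3, 4], [2, 4, 0, 2, 0, 2, 2, 2, 0, 2, 2, 0, 2, 4], [0,
  2, 4, 2, 2, 0, 2, 0, 2, 2, 2, 4], [4, 3, 0, 2, 2, 4, 3, 3, 4, 3, 3, 4], [4, 0, 3, 0, 3, 3, 4, 2, 2, 2], [3, 0,
  2, 4, 2, 2, 4, 3, 4, 0, 2, 2, 4], [4, 2, 2, 4, 3, 3, 4, 3, 4], [2, 4, 0, 2, 2, 0, 3, 3, 4, 0, 3, 3], [4, 3, 4,
  0, 3, 3, 0, 3, 3, 0, 3, 4], [4, 2, 4, 3, 3, 4, 3, 3], [4, 0, 3, 0, 3, 4, 3, 3, 0, 3, 3, 4], [2, 2, 4, 2, 0, 3,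
  3, 4, 3, 0, 2, 2, 2], [4, 3, 0, 2, 4, 2, 4, 0, 2, 2], [3, 4, 3, 0, 2, 0, 2, 4, 2, 4, 0, 2, 2], [0, 3, 0, 3, 0,
  3, 3, 4, 3, 3, 4, 0, 2, 4], [3, 3, 4, 3, 0, 3, 4, 3, 0, 2, 2, 2, 4], [4, 0, 3, 0, 3, 4, 0, 3, 3, 4], [3, 0, 3,
  0, 3, 0, 3, 3, 0, 3, 4], [2, 0, 2, 2, 2, 4, 0, 2, 0, 2, 2, 4], [3, 3, 0, 3, 0, 3, 3, 0, 3, 4], [0, 2, 2, 0, 2,
  2, 2, 0, 3, 3, 4], [3, 4], [4, 2, 4, 2, 2, 0, 2, 2], [0, 3, 0, 3, 0, 2, 2, 0, 2, 2, 4], [3, 4, 2, 4, 3, 0, 3,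
  4, 3, 4, 3, 3, 0, 3], [3, 3, 0, 2, 0, 2, 2, 4, 3, 4, 0, 2, 2], [3, 4, 0, 3, 0, 2, 4, 2, 4], [0, 2, 0, 3, 4, 3,
  4], [0, 3, 0, 3, 3, 4, 2, 4, 0, 3, 3, 4], [2, 4, 2, 4, 3, 3, 0, 3, 4, 3], [4, 3, 3, 4, 3, 0, 3, 3, 0, 2, 2, 0,
  2, 4], [3, 4, 3, 0, 2, 4, 2, 4], [4, 3, 4, 3, 3, 0, 2, 2, 2, 4], [0, 3, 0, 3, 0, 3, 3, 0, 2, 2, 4], [4, 2, 4,
  3, 4, 0, 2, 2, 2, 4, 2, 2], [4, 3, 0, 2, 4, 2, 4, 0, 2, 2, 4], [2, 2, 4, 2, 0, 3, 3, 4, 3, 0, 2, 2, 2, 4], [2,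
  4, 0, 2, 2, 0, 3, 3, 4, 0, 3, 3, 4], [4, 3, 4, 0, 3, 3, 0, 3, 3, 0, 3], [4, 2, 4, 3, 3, 4, 3, 3, 4], [4, 0, 3,
  0, 3, 4, 3, 3, 0, 3, 3], [3, 4, 3, 0, 2, 0, 2, 4, 2, 4, 0, 2, 2, 4], [3, 3, 0, 3, 0, 3, 3, 0, 3], [0, 3, 0, 3,
  0, 3, 3, 4, 3, 3, 4, 0, 2], [4, 0, 3, 0, 3, 4, 0, 3, 3], [3, 0, 3, 0, 3, 0, 3, 3, 0, 3], [2, 0, 2, 2, 2, 4, 0,
  2, 0, 2, 2], [3, 3, 4, 3, 0, 3, 4, 3, 0, 2, 2, 2], [0, 2, 2, 0, 2, 2, 2, 0, 3, 3], [3], [4, 2, 4, 2, 2, 0, 2,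
  2, 4], [0, 3, 0, 3, 0, 2, 2, 0, 2, 2], [3, 4, 2, 4, 3, 0, 3, 4, 3, 4, 3, 3, 0, 3, 4], [3, 3, 0, 2, 0, 2, 2, 4,
  3, 4, 0, 2, 2, 4], [3, 4, 0, 3, 0, 2, 4, 2], [0, 2, 0, 3, 4, 3], [0, 3, 0, 3, 3, 4, 2, 4, 0, 3, 3], [2, 4, 2,
  4, 3, 3, 0, 3, 4, 3, 4], [4, 3, 3, 4, 3, 0, 3, 3, 0, 2, 2, 0, 2], [3, 4, 3, 0, 2, 4, 2], [4, 3, 4, 3, 3, 0, 2,
  2, 2], [0, 3, 0, 3, 0, 3, 3, 0, 2, 2], [4, 2, 4, 3, 4, 0, 2, 2, 2, 4, 2, 2, 4], [3, 3, 0, 2, 0, 2, 2, 2, 0, 2,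
  2], [2, 2, 4, 3, 4, 3, 3, 4, 3, 3], [0, 2, 2, 0, 2, 2, 2, 0, 3, 0, 3], [2, 2, 4, 3, 4, 3, 3, 4, 3, 3, 4], [0,
  2, 2, 0, 2, 2, 2, 0, 3, 0, 3, 4], [3, 3, 0, 2, 0, 2, 2, 2, 0, 2, 2, 4], [3, 3, 4, 0, 3, 3, 4, 3, 3, 0, 2, 4,
  2, 2], [0, 2, 2, 2, 4, 2, 2, 4, 0, 2, 4, 2], [2, 4, 2, 0, 3, 0, 2, 2, 2, 4, 2, 2], [2, 2, 4, 0, 2, 4, 2, 0, 2,
  2], [3, 0, 3, 4, 3, 0, 3, 3, 0, 2, 2, 2, 4], [3, 4, 3, 3, 0, 2, 0, 2, 2, 2, 4], [2, 2, 4, 0, 2, 4, 2, 0, 2, 2,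
  4], [3, 4, 3, 3, 0, 2, 0, 2, 2, 2], [3, 0, 3, 4, 3, 0, 3, 3, 0, 2, 2, 2], [0, 3, 4, 0, 3, 3, 4, 2, 2, 4, 2],
  [4, 2, 2, 4, 2, 2, 2, 4, 0, 2, 4], [0, 3, 4, 0, 3, 3, 4, 2, 2, 4, 2, 4], [4, 2, 2, 4, 2, 2, 2, 4, 0, 2], [3,
  4, 2, 2, 2, 0, 3, 0, 2, 2, 2], [3, 0, 2, 2, 4, 0, 2, 4, 2, 4], [0, 2, 0, 3, 3, 4, 2, 2, 2, 4, 0, 2, 2], [3, 0,
  3, 4, 3, 4, 3, 4, 2, 2, 0, 2], [2, 0, 3, 4, 0, 2, 0, 2, 4, 2], [0, 2, 2, 0, 2, 4, 2], [3, 3, 4, 0, 3, 3, 4, 3,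
  3, 0, 2, 4, 2, 2, 4], [0, 2, 2, 2, 4, 2, 2, 4, 0, 2, 4, 2, 4], [2, 4, 2, 0, 3, 0, 2, 2, 2, 4, 2, 2, 4], [3, 4,
  2, 2, 2, 0, 3, 0, 2, 2, 2, 4], [3, 0, 2, 2, 4, 0, 2, 4, 2], [0, 2, 0, 3, 3, 4, 2, 2, 2, 4, 0, 2, 2, 4], [3, 0,
  3, 4, 3, 4, 3, 4, 2, 2, 0, 2, 4], [2, 0, 3, 4, 0, 2, 0, 2, 4, 2, 4], [0, 2, 2, 0, 2, 4, 2, 4], [0, 3, 0, 3, 4,
  2, 2, 4, 2, 4, 2, 4], [3, 4, 3, 3, 0, 3, 3], [3, 3, 4, 3, 4, 3, 4, 2, 2, 0, 2], [0, 3, 0, 3, 4, 2, 2, 4, 2, 4,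
  2], [3, 4, 3, 3, 0, 3, 3, 4], [3, 3, 4, 3, 4, 3, 4, 2, 2, 0, 2, 4], [2, 0, 2, 2, 0, 3, 4, 3, 4], [2, 4, 0, 2,
  0, 2, 2, 0, 3, 4, 3, 4], [0, 2, 2, 0, 2, 2, 4, 2, 2, 0, 2, 2, 2], [2, 4, 0, 3, 4, 2, 2, 2], [0, 3, 0, 2, 4, 2,
  2, 0, 2, 2, 2], [3, 4, 2, 4, 3, 3, 0, 2, 2, 0, 2, 2], [0, 3, 0, 2, 4, 2, 2, 0, 2, 2, 2, 4], [3, 4, 2, 4, 3, 3,
  0, 2, 2, 0, 2, 2, 4], [3, 3, 4, 3, 0, 3, 3, 0, 2, 2], [3, 0, 3, 4, 3, 0, 3, 0, 2, 4, 2, 2, 4], [3, 0, 2, 2, 4,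
  2, 4, 0, 2, 4, 2, 2, 4], [4, 3, 4, 2, 2, 2, 0, 2, 2, 2], [4, 0, 2, 2, 0, 3, 3, 4, 3, 0, 3, 3, 4], [3, 4, 2, 2,
  2, 0, 2, 2, 0, 2], [3, 4, 2, 2, 4, 2, 2, 2, 4, 2, 2, 4, 2, 4], [2, 0, 3, 4, 3, 0, 2, 2, 2, 4, 2, 2], [0, 3, 4,
  2, 2, 4, 2, 4, 2, 2, 0, 2, 4], [2, 2, 0, 3, 4, 0, 3, 3, 0, 2, 2, 0, 2], [4, 2, 2, 0, 2, 2, 0, 2, 2, 4, 2], [2,
  0, 3, 3, 4, 3, 4, 2, 2, 4, 2, 4], [3, 0, 2, 4, 2, 2, 0, 2, 4, 2, 0, 2, 2], [2, 0, 3, 3, 4, 3, 4, 2, 2, 4, 2],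
  [3, 0, 2, 4, 2, 2, 0, 2, 4, 2, 0, 2, 2, 4], [3, 0, 3, 3, 4, 3, 3, 4, 0, 2], [2, 4, 0, 2, 4, 2, 4, 2, 2, 0, 2,
  2, 4], [4, 0, 2, 4, 2, 4, 2, 2, 0, 2], [2, 2, 0, 2, 4, 2, 2, 4, 2, 2, 0, 2, 0, 2, 4], [3, 3, 0, 2, 4, 2, 2, 2,
  4, 3, 3, 4, 3], [4, 0, 2, 4, 2, 4, 2, 2, 0, 2, 4], [2, 2, 0, 2, 4, 2, 2, 4, 2, 2, 0, 2, 0, 2], [3, 3, 0, 2, 4,
  2, 2, 2, 4, 3, 3, 4, 3, 4], [3, 0, 2, 2, 4, 0, 2, 2], [2, 4, 0, 2, 2, 4], [2, 2, 4, 3, 4, 0, 2, 2, 4], [2, 4,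
  0, 3, 0, 3, 3, 0, 3, 3, 4, 3], [2, 0, 2, 2, 0, 3, 4, 3], [2, 4, 0, 2, 0, 2, 2, 0, 3, 4, 3], [4, 0, 2, 2, 0, 2,
  2, 0, 2, 4], [4, 2, 2, 4, 2, 2, 2], [2, 4, 2, 2, 0, 2, 2], [4, 2, 2, 4, 0, 2, 4, 2, 0, 2, 2, 4], [3, 4, 3, 3,
  0, 2, 2, 0, 2, 4, 2], [0, 3, 3, 4, 3, 3, 0, 3, 4, 0, 2, 2, 2], [3, 4, 3, 3, 0, 2, 2, 2], [3, 4, 3, 3, 0, 2, 2,
  2, 4], [0, 3, 3, 4, 3, 3, 0, 3, 4, 0, 2, 2, 2, 4], [3, 0, 2, 0, 2, 4, 2, 4, 2, 2, 0, 2, 4], [0, 2, 0, 3, 3, 0,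
  2, 4, 2, 4, 2, 2], [3, 0, 2, 0, 2, 4, 2, 4, 2, 2, 0, 2], [0, 2, 0, 3, 3, 0, 2, 4, 2, 4, 2, 2, 4], [0, 2, 2, 2,
  0, 3, 3, 0, 3, 4], [0, 2, 2, 0, 2, 2, 0, 2, 4], [2, 2, 0, 2, 2, 0, 3, 3, 0, 2, 2, 2, 4], [0, 2, 2, 2, 0, 3, 3,
  0, 3], [0, 2, 2, 0, 2, 2, 0, 2], [2, 2, 0, 2, 2, 0, 3, 3, 0, 2, 2, 2], [0, 2, 2, 0, 3, 4, 0, 2, 2, 4, 2, 2],
  [3, 4, 3, 3, 0, 3, 3, 0, 3, 4], [0, 3, 0, 3, 4, 0, 3, 3, 4], [0, 2, 2, 0, 3, 4, 0, 2, 2, 4, 2, 2, 4], [3, 4,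
  3, 3, 0, 3, 3, 0, 3], [0, 3, 0, 3, 4, 0, 3, 3], [4, 2, 4, 2, 2, 0, 3, 4, 2, 2, 2], [0, 3, 0, 3, 3, 4, 2, 2, 4,
  2], [3, 0, 2, 4, 2, 0, 2, 2, 4, 2, 2], [3, 0, 2, 2, 0, 2, 2, 4, 2, 4, 2, 4], [3, 0, 2, 4, 2, 0, 2, 2, 4, 2, 2,
  4], [3, 0, 2, 2, 0, 2, 2, 4, 2, 4, 2], [4, 0, 2, 2, 2, 0, 3, 3, 0, 3], [0, 3, 4, 0, 3, 0, 2, 2, 0, 2, 2], [0,
  2, 4, 0, 2, 2, 0, 3, 4, 3, 4, 0, 3, 3], [4, 0, 2, 2, 2, 0, 3, 3, 0, 3, 4], [0, 3, 4, 0, 3, 0, 2, 2, 0, 2, 2,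
  4], [0, 2, 4, 0, 2, 2, 0, 3, 4, 3, 4, 0, 3, 3, 4], [0, 2, 4, 3, 4, 3, 4, 3, 3, 4, 3, 3, 4], [3, 0, 3, 4, 2, 4,
  0, 2, 2, 4, 2, 2, 0, 2], [3, 4, 0, 2], [4, 2, 4, 2, 2, 0, 3, 4, 2, 2, 2, 4], [0, 3, 0, 3, 3, 4, 2, 2, 4, 2,
  4], [3, 3, 4, 0, 2, 4, 2, 4, 2, 2, 4, 2], [4, 3, 0, 2, 2, 4, 0, 2, 2], [3, 3, 0, 3, 4, 3, 0, 2, 0, 2, 2], [4,
  3, 0, 2, 2, 4, 0, 2, 2, 4], [3, 3, 4, 0, 2, 4, 2, 4, 2, 2, 4, 2, 4], [3, 3, 0, 3, 4, 3, 0, 2, 0, 2, 2, 4], [3,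
  0, 2, 4, 2, 2, 4, 2, 2, 2], [0, 3, 4, 2, 2, 2, 0, 2, 2, 0, 2, 4], [3, 0, 2, 4, 2, 2, 4, 2, 2, 2, 4], [0, 3, 4,
  2, 2, 2, 0, 2, 2, 0, 2], [0, 2, 4, 3, 4, 3, 4, 3, 3, 4, 3, 3], [3, 0, 3, 4, 2, 4, 0, 2, 2, 4, 2, 2, 0, 2, 4],
  [3, 4, 0, 2, 4], [4, 2, 2, 4, 3, 4, 0, 2, 2], [3, 0, 2, 4, 2, 2, 4, 3, 3, 4, 3], [4, 2, 2, 4, 3, 4, 0, 2, 2,
  4], [3, 0, 2, 4, 2, 2, 4, 3, 3, 4, 3, 4], [3, 3, 4, 3, 0, 3, 3, 0, 2, 2, 2], [0, 2, 4, 2, 4, 0, 3, 3, 0, 3,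
  4], [0, 2, 2, 0, 2, 4, 2, 2], [3, 3, 4, 3, 0, 3, 3, 0, 2, 2, 2, 4], [0, 2, 4, 2, 4, 0, 3, 3, 0, 3], [0, 2, 2,
  0, 2, 4, 2, 2, 4], [4, 0, 3, 3, 4, 3, 4, 3, 3, 0, 3], [3, 4, 3, 4, 2, 2, 2, 0, 2, 2, 0, 2, 0, 2], [4, 0, 3, 3,
  4, 3, 4, 3, 3, 0, 3, 4], [3, 4, 3, 4, 2, 2, 2, 0, 2, 2, 0, 2, 0, 2, 4], [4, 2, 0, 2, 2, 0, 3, 4, 3, 4], [3, 0,
  2, 4, 2, 2, 4, 2, 2, 2, 4, 0, 2], [4, 2, 0, 2, 2, 0, 3, 4, 3], [3, 0, 2, 4, 2, 2, 4, 2, 2, 2, 4, 0, 2, 4], [0,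
  2, 2, 0, 2, 2, 4, 2, 2, 0, 2, 2, 2, 4], [2, 4, 0, 3, 4, 2, 2, 2, 4], [2, 2, 4, 3, 0, 2, 2, 4, 2, 2, 4], [0, 2,
  0, 2, 4, 0, 3, 3, 4, 3, 4], [0, 3, 0, 3, 0, 2, 4, 0, 2, 4, 2, 2, 4], [2, 0, 2, 2, 4, 2, 4, 2, 4], [4, 2, 0, 2,
  2, 4, 2, 2], [2, 0, 2, 2, 4, 2, 4, 2], [4, 2, 0, 2, 2, 4, 2, 2, 4], [2, 4, 0, 2, 4, 2], [0, 3, 0, 3, 3, 4, 2,
  2, 2, 4], [2, 4, 2, 2, 2, 4, 0, 3, 0, 3, 3, 4], [4, 0, 2, 4, 3, 4, 3, 3, 4, 3, 3, 4], [4, 3, 0, 2, 4, 2, 4, 0,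
  2, 4, 2], [4, 3, 4, 2, 4, 3, 3, 0, 2, 2, 0, 2, 2, 4], [4, 0, 2, 4, 3, 4, 3, 3, 4, 3, 3], [4, 3, 0, 2, 4, 2, 4,
  0, 2, 4, 2, 4], [4, 3, 4, 2, 4, 3, 3, 0, 2, 2, 0, 2, 2], [3, 4, 2, 0, 2, 2, 4, 2, 2, 0, 2, 2], [4, 0, 3, 4, 0,
  3, 0, 2, 2, 0, 2, 2, 4], [0, 3, 3, 0, 3, 3, 4, 0, 3, 4, 2, 2, 0, 2], [3, 4, 2, 0, 2, 2, 4, 2, 2, 0, 2, 2, 4],
  [4, 0, 3, 4, 0, 3, 0, 2, 2, 0, 2, 2], [0, 3, 3, 0, 3, 3, 4, 0, 3, 4, 2, 2, 0, 2, 4], [2, 4, 2, 2, 4, 2, 4, 2,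
  2, 2], [2, 2, 0, 2, 2, 2, 4, 2, 2, 0, 2, 0, 2, 4], [2, 4, 2, 2, 4, 2, 4, 2, 2, 2, 4], [2, 2, 0, 2, 2, 2, 4, 2,
  2, 0, 2, 0, 2], [3, 0, 2, 0, 3, 0, 3, 4, 0, 3, 3], [4, 2, 0, 2, 0, 3, 3, 0, 3, 4, 3, 4, 3], [3, 4, 0, 3, 3, 0,
  3, 3, 0, 3], [3, 0, 2, 0, 3, 0, 3, 4, 0, 3, 3, 4], [4, 2, 0, 2, 0, 3, 3, 0, 3, 4, 3, 4, 3, 4], [3, 4, 0, 3, 3,
  0, 3, 3, 0, 3, 4], [0, 3, 4, 2, 2, 2, 0, 2, 4, 2, 2, 4], [4, 2, 4, 0, 2, 2, 4, 0, 3], [2, 2, 4, 3, 3, 4, 3],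
  [0, 3, 4, 2, 2, 2, 0, 2, 4, 2, 2], [4, 2, 4, 0, 2, 2, 4, 0, 3, 4], [2, 2, 4, 3, 3, 4, 3, 4], [0, 3, 4, 3, 4,
  3, 3, 4, 3, 4, 3, 4, 3, 4], [3, 0, 2, 2, 2, 4, 3, 0, 2, 2, 4, 2, 2, 4], [3, 3, 0, 3, 0, 2, 2, 4, 2, 0, 2, 2,
  4], [4, 0, 2, 2, 0, 2, 2, 2, 0, 3, 3, 4], [2, 4, 0, 2, 4, 2, 0, 3, 4, 3, 4, 0, 3, 3], [0, 3, 4, 3, 3, 0, 3, 3,
  0, 3, 4], [4, 0, 2, 2, 0, 2, 2, 2, 0, 3, 3], [2, 4, 0, 2, 4, 2, 0, 3, 4, 3, 4, 0, 3, 3, 4], [0, 3, 4, 3, 3, 0,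
  3, 3, 0, 3], [0, 3, 3, 4, 3, 4, 3, 3, 0, 3, 4], [0, 2, 2, 0, 3, 3, 4, 3, 0, 3, 3], [2, 4, 3, 3, 0, 2, 4, 2,
  4], [0, 3, 3, 4, 3, 4, 3, 3, 0, 3], [0, 2, 2, 0, 3, 3, 4, 3, 0, 3, 3, 4], [2, 4, 3, 3, 0, 2, 4, 2], [2, 4, 3,
  3, 4, 3, 4, 3], [4, 2, 4, 2, 4, 0, 3, 0, 3, 3, 4], [3, 0, 2, 2, 0, 2, 2, 4, 2, 2, 4], [2, 2, 4, 3, 0, 2, 2, 4,
  2, 2], [0, 2, 0, 2, 4, 0, 3, 3, 4, 3], [0, 3, 0, 3, 0, 2, 4, 0, 2, 4, 2, 2], [3, 3, 4, 3, 0, 3, 3, 0, 2, 2,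
  4], [3, 0, 3, 4, 3, 0, 3, 0, 2, 4, 2, 2], [3, 0, 2, 2, 4, 2, 4, 0, 2, 4, 2, 2], [4, 3, 4, 2, 2, 2, 0, 2, 2, 2,
  4], [4, 0, 2, 2, 0, 3, 3, 4, 3, 0, 3, 3], [3, 4, 2, 2, 2, 0, 2, 2, 0, 2, 4], [3, 4, 2, 2, 4, 2, 2, 2, 4, 2, 2,
  4, 2], [2, 0, 3, 4, 3, 0, 2, 2, 2, 4, 2, 2, 4], [0, 3, 4, 2, 2, 4, 2, 4, 2, 2, 0, 2], [2, 2, 0, 3, 4, 0, 3, 3,
  0, 2, 2, 0, 2, 4], [4, 2, 2, 0, 2, 2, 0, 2, 2, 4, 2, 4], [3, 0, 2, 2, 4, 0, 2, 2, 4], [2, 4, 0, 2, 2], [2, 0,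
  3, 4, 2, 2, 0, 2, 4, 2], [3, 0, 2, 2, 0, 3, 3, 4, 3, 4, 2, 2, 2], [3, 4, 2, 2, 2, 0, 2, 2], [3, 0, 2, 2, 4, 3,
  3, 4, 3, 3, 4, 0, 2, 4], [2, 0, 3, 4, 2, 2, 0, 2, 4, 2, 4], [3, 0, 2, 2, 0, 3, 3, 4, 3, 4, 2, 2, 2, 4], [3, 4,
  2, 2, 2, 0, 2, 2, 4], [3, 0, 2, 2, 4, 3, 3, 4, 3, 3, 4, 0, 2], [4, 3, 0, 2, 2, 0, 2, 2, 4, 2, 2, 4], [4, 2, 2,
  0, 2, 4, 2, 0, 2, 2, 4], [4, 3, 0, 2, 2, 0, 2, 2, 4, 2, 2], [4, 2, 2, 0, 2, 4, 2, 0, 2, 2], [3, 0, 2, 0, 2, 0,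
  3, 0, 3, 3, 4, 3, 3], [4, 2, 4, 2, 2, 0, 2, 4, 2], [0, 2, 2, 0, 2, 2, 2, 0, 3, 3, 4, 3], [3, 0, 2, 0, 2, 0, 3,
  0, 3, 3, 4, 3, 3, 4], [4, 2, 4, 2, 2, 0, 2, 4, 2, 4], [0, 2, 2, 0, 2, 2, 2, 0, 3, 3, 4, 3, 4], [4, 3, 3, 0, 2,
  0, 2, 2, 2, 0, 2, 2], [2, 4, 0, 2, 2, 2, 0, 2, 0, 2, 2, 0, 2], [3, 3, 4, 3, 4, 3, 4, 0, 2, 0, 2, 2], [4, 0, 2,
  2, 0, 2, 2, 2, 0, 3, 0, 3, 4], [4, 3, 0, 2, 4, 0, 2, 4, 2, 4, 2, 2, 0, 2, 4], [4, 3, 3, 0, 2, 0, 2, 2, 2, 0,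
  2, 2, 4], [2, 4, 0, 2, 2, 2, 0, 2, 0, 2, 2, 0, 2, 4], [3, 3, 4, 3, 4, 3, 4, 0, 2, 0, 2, 2, 4], [4, 0, 2, 2, 0,
  2, 2, 2, 0, 3, 0, 3], [4, 3, 0, 2, 4, 0, 2, 4, 2, 4, 2, 2, 0, 2], [4, 3, 3, 0, 3, 0, 3, 3, 0, 3], [3, 4, 0, 2,
  2, 2, 0, 2, 2, 0, 2, 4], [4, 0, 2, 2, 0, 2, 4, 2, 2, 4], [4, 3, 3, 0, 3, 0, 3, 3, 0, 3, 4], [3, 4, 0, 2, 2, 2,
  0, 2, 2, 0, 2], [4, 0, 2, 2, 0, 2, 4, 2, 2], [0, 3, 0, 3, 3, 0, 3, 3, 0, 3, 3, 4, 3, 4], [3, 3, 4, 3, 0, 3, 4,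
  3, 0, 2, 2, 0, 2, 4], [4, 0, 2, 0, 3, 4, 3], [4, 3, 0, 2, 2, 0, 3, 3, 0, 3, 3, 4], [4, 3, 4, 2, 2, 2, 0, 2, 2,
  4], [3, 4, 2, 2, 2, 0, 2, 2, 2, 4], [2, 2, 4, 0, 2, 2, 0, 3, 3, 0, 3, 3], [2, 2, 2, 0, 3, 3, 4, 3, 0, 3, 3,
  4], [2, 2, 4, 0, 2, 2, 0, 3, 3, 0, 3, 3, 4], [2, 2, 2, 0, 3, 3, 4, 3, 0, 3, 3], [0, 3, 0, 3, 3, 0, 3, 3, 0, 3,
  3, 4, 3], [3, 3, 4, 3, 0, 3, 4, 3, 0, 2, 2, 0, 2], [4, 0, 2, 0, 3, 4, 3, 4], [4, 3, 4, 2, 2, 2, 0, 2, 2], [4,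
  3, 0, 2, 2, 0, 3, 3, 0, 3, 3], [3, 4, 2, 2, 2, 0, 2, 2, 2], [2, 0, 3, 3, 4, 0, 2, 2, 0, 2, 2, 4], [2, 2, 0, 3,
  3, 0, 3, 4, 3, 3, 0, 2, 0, 2], [2, 0, 3, 3, 4, 0, 2, 2, 0, 2, 2], [2, 2, 0, 3, 3, 0, 3, 4, 3, 3, 0, 2, 0, 2,
  4], [0, 3, 4, 3, 4, 3, 3, 4, 3, 4, 3, 4, 3], [3, 0, 2, 2, 2, 4, 3, 0, 2, 2, 4, 2, 2], [3, 3, 0, 3, 0, 2, 2, 4,
  2, 0, 2, 2], [2, 4, 2, 2, 0, 2, 4, 2], [2, 4, 3, 3, 4, 3, 3, 4, 0, 2], [2, 4, 2, 2, 0, 2, 4, 2, 4], [2, 4, 3,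
  3, 4, 3, 3, 4, 0, 2, 4], [3, 3, 4, 2, 4, 2, 4, 2, 4, 2, 2, 2], [3, 0, 2, 2, 0, 3, 3, 0, 3, 3, 4], [4, 3, 4, 3,
  3, 4, 0, 2, 2, 0, 2, 2, 4], [3, 0, 2, 2, 0, 3, 3, 0, 3, 3], [3, 3, 4, 2, 4, 2, 4, 2, 4, 2, 2, 2, 4], [4, 3, 4,
  3, 3, 4, 0, 2, 2, 0, 2, 2], [2, 2, 4, 2, 2, 2, 4], [2, 2, 0, 2, 4, 2, 0, 2, 2, 4], [4, 0, 2, 2, 0, 2, 4, 2,
  4], [4, 2, 4, 0, 2, 4, 2], [2, 4, 2, 2, 0, 3, 4, 2, 2, 2, 4], [0, 2, 2, 0, 2, 4, 0, 2, 4, 2], [2, 2, 4, 2, 2,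
  2], [2, 2, 0, 2, 4, 2, 0, 2, 2], [4, 0, 2, 2, 0, 2, 4, 2], [4, 2, 4, 0, 2, 4, 2, 4], [2, 4, 2, 2, 0, 3, 4, 2,
  2, 2], [0, 2, 2, 0, 2, 4, 0, 2, 4, 2, 4], [4, 0, 3, 0, 2, 4, 2, 2, 0, 2, 2], [4, 0, 3, 0, 3, 0, 2, 2, 0, 2, 2,
  4], [0, 2, 0, 3, 0, 3, 3, 4, 3, 3, 4], [4, 0, 3, 0, 2, 4, 2, 2, 0, 2, 2, 4], [4, 0, 3, 0, 3, 0, 2, 2, 0, 2,
  2], [0, 2, 0, 3, 0, 3, 3, 4, 3, 3], [2, 2, 4, 2, 2, 0, 3, 0, 3, 3, 0, 3, 4], [2, 4, 3, 4, 0, 2, 2, 2, 4, 2, 2,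
  4], [2, 4, 0, 2, 2, 4, 2, 2, 0, 2, 2, 2, 4], [2, 2, 4, 2, 2, 0, 3, 0, 3, 3, 0, 3], [2, 4, 3, 4, 0, 2, 2, 2, 4,
  2, 2], [2, 4, 0, 2, 2, 4, 2, 2, 0, 2, 2, 2], [2, 4, 0, 2, 2, 4, 0, 3, 4], [2, 0, 3, 4, 0, 2, 0, 2, 2, 4], [2,
  0, 3, 3, 4, 0, 2, 2, 0, 2, 4, 2, 4], [2, 4, 0, 2, 2, 4, 0, 3], [2, 0, 3, 4, 0, 2, 0, 2, 2], [2, 0, 3, 3, 4, 0,
  2, 2, 0, 2, 4, 2], [2, 4, 3, 3, 4, 3, 3, 4], [2, 4, 2, 4, 0, 3, 0, 3, 3, 4, 0, 2, 4], [0, 3, 0, 3, 3, 4, 2, 2,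
  2, 4, 0, 3], [2, 2, 2, 0, 3, 3, 4, 0, 2, 2, 2, 4], [3, 0, 2, 4, 2, 4, 0, 2, 4, 2], [4, 3, 0, 2, 2, 4, 2, 2, 0,
  2, 2, 4], [2, 4, 3, 3, 4, 3, 3], [2, 4, 2, 4, 0, 3, 0, 3, 3, 4, 0, 2], [0, 3, 0, 3, 3, 4, 2, 2, 2, 4, 0, 3,
  4], [3, 0, 2, 4, 2, 4, 0, 2, 4, 2, 4], [2, 2, 2, 0, 3, 3, 4, 0, 2, 2, 2], [4, 3, 0, 2, 2, 4, 2, 2, 0, 2, 2],
  [3, 4, 3, 3, 4, 0, 2, 2, 0, 2, 2, 4], [2, 2, 2, 4, 0, 2, 2, 4, 2, 2], [2, 2, 0, 2, 2, 4, 3, 3, 4, 3, 3, 0, 3],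
  [4, 2, 4, 3, 3, 4, 3, 4, 3, 4], [0, 2, 4, 0, 2, 2, 0, 3, 3, 0, 3, 3], [2, 2, 0, 2, 2, 4, 3, 3, 4, 3, 3, 0, 3,
  4], [4, 2, 4, 3, 3, 4, 3, 4, 3], [0, 2, 4, 0, 2, 2, 0, 3, 3, 0, 3, 3, 4], [2, 2, 0, 2, 2, 0, 2, 2, 4, 2, 4],
  [4, 2, 0, 3, 3, 4, 3, 4, 2, 2, 2], [2, 2, 0, 2, 2, 0, 2, 2, 4, 2], [4, 2, 0, 3, 3, 4, 3, 4, 2, 2, 2, 4], [2,
  4, 0, 2, 4, 2, 4], [0, 3, 0, 3, 3, 4, 2, 2, 2], [2, 4, 2, 2, 2, 4, 0, 3, 0, 3, 3], [2, 4, 3, 3, 4, 3, 4, 3,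
  4], [4, 2, 4, 2, 4, 0, 3, 0, 3, 3], [3, 0, 2, 2, 0, 2, 2, 4, 2, 2], [3, 3, 0, 2, 2, 4, 2, 4, 0, 2, 0, 2, 2, 2,
  4], [4, 3, 3, 4, 3, 0, 3, 0, 2, 4, 2, 2], [3, 0, 2, 4, 0, 2, 4, 2, 4, 2, 2, 0, 2, 4], [3, 3, 0, 2, 2, 4, 2, 4,
  0, 2, 0, 2, 2, 2], [4, 3, 3, 4, 3, 0, 3, 0, 2, 4, 2, 2, 4], [3, 0, 2, 4, 0, 2, 4, 2, 4, 2, 2, 0, 2], [0, 3, 0,
  3, 4, 0, 3, 4, 3], [3, 4, 0, 2, 4, 2, 2, 4, 2, 2, 4, 0, 3, 4], [0, 2, 4, 0, 2, 2, 2, 0, 3, 3, 4, 3], [0, 3, 0,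
  3, 4, 0, 3, 4, 3, 4], [3, 4, 0, 2, 4, 2, 2, 4, 2, 2, 4, 0, 3], [0, 2, 4, 0, 2, 2, 2, 0, 3, 3, 4, 3, 4], [3, 0,
  2, 2, 4, 3, 3, 4, 3, 3, 4], [0, 3, 3, 4, 3, 3, 4, 3, 4, 3, 4, 3, 4], [4, 2, 2, 2, 4, 0, 2, 2, 4, 2, 2, 4], [3,
  0, 2, 2, 4, 3, 3, 4, 3, 3], [0, 3, 3, 4, 3, 3, 4, 3, 4, 3, 4, 3], [4, 2, 2, 2, 4, 0, 2, 2, 4, 2, 2], [3, 0, 2,
  4, 2, 4, 0, 2, 2, 4, 0, 3, 4], [4, 3, 4, 3, 3, 0, 2, 0, 2, 2, 2], [3, 0, 2, 2, 2, 4, 3, 3, 4, 3, 4], [3, 0, 2,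
  4, 2, 4, 0, 2, 2, 4, 0, 3], [4, 3, 4, 3, 3, 0, 2, 0, 2, 2, 2, 4], [3, 0, 2, 2, 2, 4, 3, 3, 4, 3], [2, 4, 2, 4,
  0, 2, 4, 2, 2, 4], [3, 3, 4, 3, 0, 3, 0, 2, 4, 2, 2, 4], [3, 0, 3, 4, 3, 0, 3, 3, 0, 2, 2], [3, 3, 4, 3, 0, 3,
  0, 2, 4, 2, 2], [2, 4, 2, 4, 0, 2, 4, 2, 2], [3, 0, 3, 4, 3, 0, 3, 3, 0, 2, 2, 4], [0, 3, 3, 4, 0, 2, 0, 3, 3,
  4, 3], [2, 0, 2, 2, 4, 2, 2], [2, 0, 2, 2, 4, 0, 2, 2, 0, 2, 4, 2], [0, 3, 3, 4, 0, 2, 0, 3, 3, 4, 3, 4], [2,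
  0, 2, 2, 4, 2, 2, 4], [2, 0, 2, 2, 4, 0, 2, 2, 0, 2, 4, 2, 4], [3, 4, 3, 3, 4, 0, 2, 2, 0, 2, 2], [2, 2, 2, 4,
  0, 2, 2, 4, 2, 2, 4], [3, 3, 0, 2, 2, 0, 3, 0, 2, 0, 2, 4, 2, 2], [3, 0, 2, 2, 4, 2, 2, 4, 2, 4, 2, 2, 2], [3,
  3, 0, 2, 2, 0, 3, 0, 2, 0, 2, 4, 2, 2, 4], [3, 0, 2, 2, 4, 2, 2, 4, 2, 4, 2, 2, 2, 4]]

/-- words (non-neighbours) -/
def L2 : List (List ℕ) :=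
  [[3, 0, 2, 2, 2, 0, 3, 3], [3, 3, 4, 2, 2, 2, 4, 0, 3, 4, 3], [3, 0, 2, 2, 2, 0, 3, 3, 4], [3, 3, 4, 2, 2, 2,
  4, 0, 3, 4, 3, 4], [4, 0, 3, 0, 3, 3, 4, 0, 2, 2, 2], [3, 0, 2, 2, 4, 2, 0, 2, 2, 2, 4, 0, 2, 2, 4], [4, 0, 3,
  0, 3, 3, 4, 0, 2, 2, 2, 4], [3, 0, 2, 2, 4, 2, 0, 2, 2, 2, 4, 0, 2, 2], [4, 2, 2, 4, 2, 0, 2, 0, 2, 2, 4], [4,
  2, 2, 4, 2, 0, 2, 4, 2, 2], [4, 2, 2, 4, 2, 0, 2, 0, 2, 2], [4, 2, 2, 4, 2, 0, 2, 4, 2, 2, 4], [3, 0, 2, 2, 4,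
  2, 0, 3, 4, 3], [2, 0, 2, 2, 2, 0, 2, 0, 2], [3, 0, 2, 2, 4, 2, 0, 3, 4, 3, 4], [2, 0, 2, 2, 2, 0, 2, 0, 2,
  4], [3, 3, 4, 2, 2, 2, 0, 3, 4, 3, 4], [2, 0, 3, 0, 3, 3, 0, 2, 2, 0, 2, 2, 2], [3, 3, 4, 2, 2, 2, 0, 3, 4,
  3], [2, 0, 3, 0, 3, 3, 0, 2, 2, 0, 2, 2, 2, 4], [3, 0, 2, 0, 2, 2, 4], [2, 4, 2, 0, 2, 4, 2, 2, 4, 2, 4], [3,
  0, 2, 0, 2, 2], [2, 4, 2, 0, 2, 4, 2, 2, 4, 2], [2, 4, 2, 2, 2, 4, 0, 3, 4, 3, 4], [2, 0, 2, 0, 2, 4], [2, 4,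
  2, 2, 2, 4, 0, 3, 4, 3], [2, 0, 2, 0, 2], [0, 3, 0, 3, 0, 2, 2, 4, 0, 2, 4, 2, 4], [3, 3, 4, 3, 4, 2, 2, 4, 2,
  0, 2, 2, 4], [0, 3, 0, 3, 0, 2, 2, 4, 0, 2, 4, 2], [3, 3, 4, 3, 4, 2, 2, 4, 2, 0, 2, 2], [2, 4, 3, 3, 0, 2, 2,
  2, 4, 0, 3, 3, 4], [2, 4, 2, 0, 3, 3, 4, 3, 4], [3, 3, 4, 2, 4, 2, 2], [3, 3, 4, 2, 0, 2, 4, 0, 2], [3, 4, 3,
  3, 4, 0, 3, 3, 4, 0, 2], [3, 0, 2, 4, 0, 2, 2], [4, 2, 2, 4, 2, 4, 0, 2, 0, 2, 2, 2, 4], [0, 2, 0, 2, 2, 0, 3,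
  3, 0, 2, 2, 2, 4], [4, 2, 2, 4, 2, 4, 0, 2, 0, 2, 2, 2], [0, 2, 0, 2, 2, 0, 3, 3, 0, 2, 2, 2], [3, 3, 4, 2, 2,
  4, 2, 4], [3, 0, 2, 4, 2, 2, 0, 3, 3, 4], [3, 3, 4, 2, 4, 2, 2, 4], [3, 3, 4, 2, 0, 2, 4, 0, 2, 4], [3, 4, 3,
  3, 4, 0, 3, 3, 4, 0, 2, 4], [3, 0, 2, 4, 0, 2, 2, 4], [3, 3, 4, 2, 2, 4, 2], [3, 0, 2, 4, 2, 2, 0, 3, 3], [3,
  0, 2, 0, 2, 2, 0, 3, 3, 4], [2, 2, 4, 3, 0, 2, 0, 2, 4, 2, 4, 2, 4], [3, 0, 2, 0, 2, 2, 0, 3, 3], [2, 2, 4, 3,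
  0, 2, 0, 2, 4, 2, 4, 2], [3, 3, 4, 2, 4, 2, 0, 2, 2, 0, 3, 0, 3], [3, 0, 3, 3, 4, 3, 4, 2, 2, 2, 4], [3, 3, 4,
  2, 4, 2, 0, 2, 2, 0, 3, 0, 3, 4], [3, 0, 3, 3, 4, 3, 4, 2, 2, 2], [3, 0, 3, 4, 0, 2, 2, 4, 2, 2, 4], [2, 4, 2,
  4, 2, 0, 3, 0, 3, 3, 4, 3, 4], [2, 4, 3, 3, 0, 2, 2, 2, 4, 0, 3, 3], [2, 4, 2, 0, 3, 3, 4, 3], [3, 0, 3, 4, 3,
  4, 2, 0, 2, 2, 2], [0, 3, 3, 4, 0, 2, 4], [2, 0, 2, 2, 2, 4, 3, 3, 0, 2, 0, 2, 2], [3, 0, 2, 2, 2, 4, 3, 4, 0,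
  3, 4], [0, 2, 2, 4, 0, 2, 2, 2, 4], [4, 2, 4, 0, 2, 2, 2, 4, 0, 2, 4], [0, 2, 2, 4, 0, 2, 2, 2], [4, 2, 4, 0,
  2, 2, 2, 4, 0, 2], [0, 3, 3, 0, 3, 4, 0, 3, 4, 3], [0, 2, 2, 4, 3, 4, 0, 2, 2, 4, 2], [0, 3, 3, 0, 3, 4, 0, 3,
  4, 3, 4], [0, 2, 2, 4, 3, 4, 0, 2, 2, 4, 2, 4], [3, 3, 4, 2, 2, 2, 4, 3, 3, 4], [3, 3, 4, 2, 2, 0, 3, 4, 2, 2,
  4], [3, 3, 4, 2, 2, 2, 4, 3, 3], [3, 3, 4, 2, 2, 0, 3, 4, 2, 2], [3, 3, 4, 3, 3, 4, 3, 0, 2, 2, 2, 4], [0, 3,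
  3, 0, 2, 2, 0, 2, 2, 0, 2, 2, 2, 4], [3, 3, 4, 3, 3, 4, 3, 0, 2, 2, 2], [0, 3, 3, 0, 2, 2, 0, 2, 2, 0, 2, 2,
  2], [2, 4, 3, 4, 2, 0, 2, 0, 2, 2, 4], [2, 0, 3, 3, 0, 3, 3, 4, 3], [2, 4, 3, 4, 2, 0, 2, 0, 2, 2], [2, 0, 3,
  3, 0, 3, 3, 4, 3, 4], [2, 0, 2, 4, 2], [2, 4, 2, 2, 2, 0, 3, 0, 3, 4], [3, 0, 3, 4, 3, 4, 2, 0, 2, 2, 2, 4],
  [0, 3, 3, 4, 0, 2], [0, 3, 0, 3, 0, 3, 3, 0, 2, 2, 4, 2, 4], [2, 2, 4, 0, 2, 2, 4, 2, 0, 2, 2, 4], [0, 3, 0,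
  3, 0, 3, 3, 0, 2, 2, 4, 2], [2, 2, 4, 0, 2, 2, 4, 2, 0, 2, 2], [3, 0, 2, 2, 4, 2, 4, 3, 4, 3], [0, 3, 4], [3,
  0, 2, 0, 3, 3, 4, 0, 3, 3, 4], [3, 0, 2, 2, 4, 2, 0, 3, 0, 3, 3, 4, 0, 2, 4], [3, 3, 4, 2, 4, 0, 2, 4, 2, 4],
  [2, 2, 0, 3, 4, 2, 2, 0, 2, 2, 4], [3, 0, 2, 4, 2, 4, 0, 2], [2, 0, 2, 0, 3, 3, 4, 0, 2, 2, 2], [2, 2, 2, 0,
  2, 4, 2, 0, 2, 2, 2], [3, 3, 4, 2, 4, 2, 4, 2, 4], [3, 0, 2, 2, 4, 2, 4, 3, 4, 3, 4], [0, 3], [3, 0, 2, 0, 3,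
  3, 4, 0, 3, 3], [3, 0, 2, 2, 4, 2, 0, 3, 0, 3, 3, 4, 0, 2], [3, 3, 4, 2, 4, 0, 2, 4, 2], [2, 2, 0, 3, 4, 2, 2,
  0, 2, 2], [3, 0, 2, 4, 2, 4, 0, 2, 4], [2, 0, 2, 0, 3, 3, 4, 0, 2, 2, 2, 4], [2, 2, 2, 0, 2, 4, 2, 0, 2, 2, 2,
  4], [3, 3, 4, 2, 4, 2, 4, 2], [0, 3, 3, 0, 2, 2, 4, 0, 2, 4, 2], [2, 4, 0, 2, 2, 0, 2, 2, 2, 4, 2, 2, 4], [0,
  3, 3, 0, 2, 2, 4, 0, 2, 4, 2, 4], [2, 4, 0, 2, 2, 0, 2, 2, 2, 4, 2, 2], [2, 0, 2, 4, 2, 4], [2, 4, 2, 2, 2, 0,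
  3, 0, 3], [2, 0, 2, 2, 2, 4, 3, 3, 0, 2, 0, 2, 2, 4], [3, 0, 2, 2, 2, 4, 3, 4, 0, 3], [3, 4, 3, 3, 0, 3, 4, 2,
  2, 2, 4], [3, 0, 3, 3, 0, 3, 3, 0, 3, 0, 3, 4], [3, 4, 3, 3, 0, 3, 4, 2, 2, 2], [3, 0, 3, 3, 0, 3, 3, 0, 3, 0,
  3], [2, 0, 3, 0, 3, 0, 2, 4, 2, 2, 0, 2, 4], [3, 0, 3, 4, 0, 2, 2, 0, 2, 2, 4], [0, 3, 4, 3, 3, 4, 3, 4, 3, 4,
  3, 3], [3, 0, 2, 2, 4, 3, 0, 2, 0, 2], [2, 0, 3, 0, 3, 0, 2, 4, 2, 2, 0, 2], [3, 0, 3, 4, 0, 2, 2, 0, 2, 2],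
  [0, 3, 4, 3, 3, 4, 3, 4, 3, 4, 3, 3, 4], [3, 0, 2, 2, 4, 3, 0, 2, 0, 2, 4], [2, 4, 0, 2, 2, 2, 4, 3, 3, 4, 3],
  [2, 4, 0, 2, 2, 0, 3, 4, 3, 3, 0, 2, 2], [3, 4, 3, 3, 4, 0, 3, 0, 3, 3, 0, 2, 2], [3, 3, 4, 2, 4, 2, 2, 4, 0,
  3], [2, 4, 0, 2, 2, 2, 4, 3, 3, 4, 3, 4], [2, 4, 0, 2, 2, 0, 3, 4, 3, 3, 0, 2, 2, 4], [3, 4, 3, 3, 4, 0, 3, 0,
  3, 3, 0, 2, 2, 4], [3, 3, 4, 2, 4, 2, 2, 4, 0, 3, 4], [0, 2, 4, 0, 3, 3, 0, 3, 0, 2, 0, 2, 2], [3, 0, 3, 4, 0,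
  3, 3, 4], [3, 0, 2, 2, 2, 4, 3, 3, 4], [3, 0, 2, 2, 2, 0, 2, 2, 4, 0, 2, 2, 4], [3, 0, 2, 2, 2, 4, 3, 3], [3,
  0, 2, 2, 2, 0, 2, 2, 4, 0, 2, 2], [0, 3, 0, 2, 0, 2, 0, 2, 4, 2], [2, 4, 0, 2, 2, 0, 2, 2, 2, 4, 0, 2, 2, 4],
  [0, 3, 0, 2, 0, 2, 0, 2, 4, 2, 4], [2, 4, 0, 2, 2, 0, 2, 2, 2, 4, 0, 2, 2], [3, 3, 0, 2, 2, 4, 2, 2, 4, 2, 0,
  2, 2], [0, 3, 0, 3, 3, 4, 3, 4, 3, 4, 3, 3], [3, 3, 0, 2, 2, 4, 2, 2, 4, 2, 0, 2, 2, 4], [0, 3, 0, 3, 3, 4, 3,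
  4, 3, 4, 3, 3, 4], [3, 4, 2, 4, 2, 2, 4, 2, 0, 2, 2, 4, 2, 2], [3, 0, 2, 2, 2, 4, 2, 2, 4, 0, 2, 2, 4], [4, 2,
  4, 0, 2, 4, 2, 2, 4, 0, 2, 4], [2, 0, 2, 2, 0, 2, 2, 2, 4, 0, 2, 2], [4, 2, 4, 0, 2, 4, 2, 2, 4, 0, 2], [2, 0,
  2, 2, 0, 2, 2, 2, 4, 0, 2, 2, 4], [3, 4, 2, 4, 2, 2, 4, 2, 0, 2, 2, 4, 2, 2, 4], [3, 0, 2, 2, 2, 4, 2, 2, 4,
  0, 2, 2], [3, 0, 3, 4, 0, 2, 2, 4, 2, 2], [2, 4, 2, 4, 2, 0, 3, 0, 3, 3, 4, 3], [3, 3, 4, 3, 0, 2, 0, 2, 2, 4,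
  2, 2], [4, 0, 3, 3, 4, 3, 0, 2, 2, 4, 2, 2, 4], [3, 3, 4, 3, 0, 2, 0, 2, 2, 4, 2, 2, 4], [4, 0, 3, 3, 4, 3, 0,
  2, 2, 4, 2, 2], [3, 4, 3, 3, 4, 0, 3, 4], [3, 3, 4, 2, 2, 2, 0, 3, 3, 4], [3, 4, 3, 3, 4, 0, 3], [3, 3, 4, 2,
  2, 2, 0, 3, 3], [3, 0, 2, 2, 0, 3, 4, 2, 2], [2, 4, 0, 2, 2, 2, 4, 3, 3, 0, 3], [3, 0, 2, 4, 2, 2], [3, 0, 3,
  3, 0, 2, 4, 2, 2, 2, 4, 2, 2], [3, 0, 2, 4, 2, 2, 4], [3, 0, 3, 3, 0, 2, 4, 2, 2, 2, 4, 2, 2, 4], [3, 0, 2, 2,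
  4, 0, 2, 4], [3, 4, 0, 2, 4, 2, 2, 2, 0, 2, 2, 4], [3, 0, 2, 2, 4, 0, 2], [3, 4, 0, 2, 4, 2, 2, 2, 0, 2, 2],
  [3, 3, 4, 2, 2, 0, 2, 4], [2, 4, 2, 2, 0, 3, 4, 3, 3, 4, 3, 4], [3, 3, 4, 2, 2, 0, 2], [2, 4, 2, 2, 0, 3, 4,
  3, 3, 4, 3], [3, 0, 2, 2, 2, 4], [3, 3, 4, 3, 3, 4, 3, 0, 3, 4, 3, 3, 4], [3, 0, 2, 2, 2], [3, 3, 4, 3, 3, 4,
  3, 0, 3, 4, 3, 3], [3, 0, 2, 2, 0, 3, 4, 2, 2, 4], [2, 4, 0, 2, 2, 2, 4, 3, 3, 0, 3, 4], [3, 4, 0, 3, 4, 3, 0,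
  2, 2, 4, 2], [3, 4, 0, 3, 4, 3, 0, 2, 0, 2, 4, 2, 4], [3, 4, 0, 3, 4, 3, 0, 2, 2, 4, 2, 4], [3, 4, 0, 3, 4, 3,
  0, 2, 0, 2, 4, 2], [2, 4, 2, 2, 0, 2, 2, 4, 2, 4], [3, 3, 0, 3, 0, 2, 4, 2, 4, 2, 0, 2, 2, 4], [4, 2, 2, 4, 0,
  2, 2, 2, 4], [4, 0, 2, 4, 2, 0, 3, 3, 4, 3, 3], [4, 2, 2, 4, 0, 2, 2, 2], [4, 0, 2, 4, 2, 0, 3, 3, 4, 3, 3,
  4], [4, 2, 0, 2, 2, 4, 2, 4, 2, 4, 2], [4, 3, 4, 2, 2, 2, 4, 0, 2, 0, 2, 2], [2, 4, 2, 2, 0, 2, 2, 4, 2], [3,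
  3, 0, 3, 0, 2, 4, 2, 4, 2, 0, 2, 2], [4, 2, 0, 2, 2, 4, 2, 4, 2, 4, 2, 4], [4, 3, 4, 2, 2, 2, 4, 0, 2, 0, 2,
  2, 4], [0, 3, 3, 0, 2, 4, 2, 0, 2, 0, 2, 2, 4], [4, 2, 2, 2, 4, 3, 0, 3, 3, 4, 3, 3, 4], [0, 3, 3, 0, 2, 4, 2,
  0, 2, 0, 2, 2], [4, 2, 2, 2, 4, 3, 0, 3, 3, 4, 3, 3], [2, 0, 2, 2, 2, 4, 0, 2, 4, 2, 4], [3, 0, 2, 2, 2, 4, 0,
  3, 3, 4], [2, 0, 2, 2, 2, 4, 0, 2, 4, 2], [3, 0, 2, 2, 2, 4, 0, 3, 3], [0, 2, 4, 0, 3, 3, 0, 3, 0, 2, 0, 2, 2,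
  4], [3, 0, 3, 4, 0, 3, 3], [3, 0, 2, 2, 0, 2, 0, 3, 4, 3, 4], [2, 4, 3, 4, 3, 4], [3, 0, 2, 2, 0, 2, 0, 3, 4,
  3], [2, 4, 3, 4, 3], [3, 4, 0, 2, 4, 2, 2, 2], [2, 0, 2, 2, 4, 2, 0, 2, 0, 2, 2], [3, 4, 0, 2, 4, 2, 2, 2, 4],
  [2, 0, 2, 2, 4, 2, 0, 2, 0, 2, 2, 4], [2, 0, 3, 4, 3, 4, 3, 4, 3, 3, 4, 2, 2, 2], [3, 3, 4, 2, 0, 2, 0, 2, 4],
  [2, 0, 3, 4, 3, 4, 3, 4, 3, 3, 4, 2, 2, 2, 4], [3, 3, 4, 2, 0, 2, 0, 2], [2, 0, 3, 4, 3, 0, 2, 0, 2, 2, 0, 2],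
  [0, 2, 0, 3, 0, 3, 0, 2, 4, 2, 2, 4], [2, 0, 3, 4, 3, 0, 2, 0, 2, 2, 0, 2, 4], [0, 2, 0, 3, 0, 3, 0, 2, 4, 2,
  2], [0, 3, 3, 0, 3, 3, 0, 2, 2, 4, 2], [3, 3, 4, 2, 2, 2, 4, 2, 2, 2, 4, 0, 2], [0, 3, 3, 0, 3, 3, 0, 2, 2, 4,
  2, 4], [3, 3, 4, 2, 2, 2, 4, 2, 2, 2, 4, 0, 2, 4]]

/-- words fixing the point `0` -/
def R1 : List (List ℕ) :=
  [[3, 4, 3, 4, 0, 3, 3, 4, 2], [3, 4, 2, 2, 4, 0, 2, 4, 2], [3, 0, 3, 0, 3, 0, 3, 0], [4, 3, 4, 2, 2, 2, 4, 2],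
  [3, 4, 2, 2, 2, 4, 2], [3, 4, 2, 0, 2, 4, 0, 2], [0, 2, 0, 2, 2, 0, 2, 2, 0], [0, 2, 2, 2, 4, 0, 3, 3, 0], [3,
  3, 0, 3, 0, 2, 2, 2], [3, 4, 3, 0, 2, 4, 3, 3, 0], [3, 4, 0, 3, 3, 4, 0, 2], [], [3, 4, 3, 3, 0, 2, 4, 0, 2],
  [2, 2, 0, 3, 4, 3, 0, 2, 0, 2], [4, 0, 3, 3, 0, 3, 0, 2, 0, 2], [2, 4, 2, 0, 3], [0, 3, 3, 0, 3, 3, 0, 3, 0],
  [4, 0, 3, 3, 0, 3, 3, 0, 3, 0], [3, 4, 0, 3, 4, 2, 2, 0, 2], [0, 3, 3, 0, 3, 0, 2, 0, 2], [3, 0, 3, 4, 0, 2,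
  0, 2], [0, 2, 0, 2, 4, 2, 0, 2]]

/-- words fixing the point `0` -/
def R2 : List (List ℕ) :=
  [[2, 0, 2, 4, 3], [3, 3, 4, 0, 3, 4, 0, 3, 3, 0, 3, 3], [0, 2, 4, 2, 2, 4, 3, 3, 4, 3, 0], [3, 4, 3, 4, 3, 4,
  2, 2, 2, 0], [4, 2, 4, 3, 0, 3], [0, 3, 0, 2, 0, 2, 0, 3, 0, 3, 0], [0, 2, 2, 2, 4, 2, 2, 0, 2, 2, 2, 0], [4,
  0, 2, 4, 2, 2, 4, 3, 3, 4, 3, 0], [4, 2, 2, 4, 0, 3, 4, 3, 3, 0, 3, 0], [2, 4, 3, 0, 3], [4, 2, 0, 3, 4, 3],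
  [2, 0, 3, 4, 3], [3, 4, 3, 0, 3, 0, 3, 3, 4, 0], [2, 4, 3, 3, 4, 0, 2, 4, 3], [2, 4, 3, 0, 3, 4], [3, 0, 3, 3,
  0, 3, 0, 2, 0], [0, 3, 0, 3, 4, 3, 4, 3], [2, 4, 2, 0, 2, 4, 3, 3], [2, 2, 4, 0, 3, 4, 3, 3, 0, 3, 0], [0, 3,
  4, 3, 0, 2, 0, 3, 0], [4, 0, 3, 4, 3, 0, 2, 0, 3, 0], [4, 0, 3, 3, 0, 2, 0, 3, 0], [3, 4, 3, 3, 4, 3, 0, 2,
  0], [2, 4, 2, 0, 2, 4, 3, 3, 4], [3, 4, 2, 0, 2, 4, 0, 2], [2, 0, 3, 4, 3, 0, 3, 3, 0, 2, 0, 3, 0], [0, 2, 2,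
  4, 3, 3, 0, 3, 3, 4, 0], [3, 4, 0, 3, 0, 3, 4, 2], [2, 4, 0, 2, 0, 3, 0, 3, 3, 0, 3, 0], [3, 4, 3, 3, 0, 2, 4,
  0, 2], [2, 4, 3, 4, 0, 2, 0, 3], [4, 2, 2, 4, 3, 3], [0, 3, 3, 0, 2, 0, 3, 0], [3, 0, 3, 4, 3, 0, 3, 0], [3,
  4, 3, 0, 2, 4, 3, 3, 4, 0], [2, 4, 2, 4, 2, 0, 2, 0], [2, 0, 2, 2, 4, 2, 0, 2, 0], [2, 2, 2, 4, 3, 3, 0, 2, 4,
  2, 2, 2, 4, 0], [], [4, 3, 3, 0, 3, 0, 2, 2, 2], [4, 0, 2, 2, 4, 3, 3, 0, 3, 3, 4, 0], [4, 2, 2, 0, 3, 3, 4,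
  0, 3, 0], [3, 0, 3, 4, 3, 3, 4, 3, 4, 0, 3, 0], [2, 4, 2, 0, 3], [0, 2, 2, 4, 2, 4, 3, 3, 0, 2, 2, 2], [3, 4,
  3, 4, 2, 4, 3, 3, 0], [3, 4, 3, 0, 2, 4, 3, 3, 0], [3, 0, 3, 0, 2, 4, 2, 0, 3, 3], [2, 2, 4, 3, 3], [2, 0, 2,
  4, 2, 4, 3, 3], [3, 0, 3, 3, 4, 2, 2, 2, 4, 0, 2], [3, 3, 4, 3, 3, 4, 3, 3, 0, 2, 0], [4], [0, 2, 4, 0, 2, 2,
  0, 3, 3], [3, 3, 0, 3, 0, 2, 2, 2], [2, 2, 0, 3, 3, 4, 0, 3, 0], [4, 0, 2, 4, 0, 2, 2, 0, 3, 3], [4, 3, 0, 3,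
  0, 2, 4, 2, 0, 3, 3], [0, 2, 0, 2, 4, 0, 3, 0, 3, 0], [3, 3, 4, 3, 4, 3, 4, 3, 3, 0, 2, 0], [2, 2, 4, 3, 3,
  4], [3, 4, 3, 0, 3, 0, 3, 3, 0], [0, 2, 0, 2, 2, 2, 0, 3, 0], [2, 0, 3, 4, 3, 4], [2, 2, 2, 0, 2, 0, 2, 2],
  [3, 4, 2, 2, 0, 2, 0, 2, 2, 2, 0], [4, 0, 3, 3, 0, 3, 3, 0, 3, 0], [3, 4, 3, 4, 3, 0, 3, 3, 0], [0, 2, 0, 2,
  2, 0, 2, 2, 4, 0], [4, 2, 2, 4, 3, 3, 4], [0, 3, 0, 3, 3, 0, 2, 4, 0, 3, 0], [4, 0, 2, 0, 2, 2, 2, 0, 3, 0],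
  [2, 4, 3, 3, 4, 3, 4], [3, 4, 2, 2, 0, 3, 0, 3, 3, 0], [0, 2, 0, 3, 4, 3, 4, 0, 3, 0], [0, 3, 3, 0, 3, 3, 0,
  3, 0], [0, 2, 4, 0, 2, 4, 3, 3, 0, 3, 0]]

/-- the image of `0` (neighbour) -/
def q1 : ℕ := 60
/-- the image of `0` (non-neighbour) -/
def q2 : ℕ := 49

theorem len_L1 : L1.length = 560 := by decide +kernel
theorem len_L2 : L2.length = 240 := by decide +kernel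
theorem len_R1 : R1.length = 22 := by decide +kernel
theorem len_R2 : R2.length = 77 := by decide +kernel
theorem incr_L1 : incr L1 0 = true := by decide +kernel
theorem incr_L2 : incr L2 0 = true := by decide +kernel
theorem chkL_L1 : chkL q1 L1 = true := by decide +kernel
theorem chkL_L2 : chkL q2 L2 = true := by decide +kernel
theorem chkR_R1 : chkR R1 = true := by decide +kernel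
theorem chkR_R2 : chkR R2 = true := by decide +kernel
theorem nodup_R : (R1.map (fun w => tl w q1) ++ R2.map (fun w => tl w q2)).Nodup := by decide +kernel

/-! ### the specifications of the checks -/

theorem incr_spec : ∀ (L : List (List ℕ)) (k : ℕ), incr L k = true →
    (∀ c ∈ L, k < key (cw c)) ∧ (L.map fun c => key (cw c)).Nodup
  | [], _, _ => ⟨fun _ h => absurd h List.not_mem_nil, List.nodup_nil⟩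
  | c :: L, k, h => by
    have h0 : (Bool.rec false (incr L (key (cw c))) (Nat.blt k (key (cw c))) : Bool) = true := h
    cases hb : Nat.blt k (key (cw c)) with
    | false => rw [hb] at h0; exact absurd h0 (by simp)
    | true =>
      rw [hb] at h0
      have h1 : k < key (cw c) := Nat.blt_eq ▸ hb
      obtain ⟨h2, h3⟩ := incr_spec L _ h0
      refine ⟨?_, ?_⟩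
      · intro d hd
        rcases List.mem_cons.1 hd with rfl | hd
        · exact h1
        · exact h1.trans (h2 d hd)
      · rw [List.map_cons, List.nodup_cons]
        refine ⟨?_, h3⟩
        intro hm
        obtain ⟨d, hd, hde⟩ := List.mem_map.1 hm
        have := h2 d hd
        omega

theorem chkL_spec {q : ℕ} : ∀ (L : List (List ℕ)), chkL q L = true →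
    ∀ c ∈ L, okw c = true ∧ tl (cw c) 0 = q
  | [], _ => fun _ h => absurd h List.not_mem_nil
  | c :: L, h => by
    have h0 : (Bool.rec false (Bool.rec false (chkL q L) (Nat.beq (tl (cw c) 0) q)) (okw c) : Bool) = true := h
    cases hb : okw c with
    | false => rw [hb] at h0; exact absurd h0 (by simp)
    | true =>
      rw [hb] at h0
      cases hb2 : Nat.beq (tl (cw c) 0) q with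
      | false => rw [hb2] at h0; exact absurd h0 (by simp)
      | true =>
        rw [hb2] at h0
        intro d hd
        rcases List.mem_cons.1 hd with rfl | hd
        · exact ⟨hb, Nat.eq_of_beq_eq_true hb2⟩
        · exact chkL_spec L h0 d hd

theorem chkR_spec : ∀ (L : List (List ℕ)), chkR L = true → ∀ c ∈ L, tl c 0 = 0
  | [], _ => fun _ h => absurd h List.not_mem_nil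
  | c :: L, h => by
    have h0 : (Bool.rec false (chkR L) (Nat.beq (tl c 0) 0) : Bool) = true := h
    cases hb2 : Nat.beq (tl c 0) 0 with
    | false => rw [hb2] at h0; exact absurd h0 (by simp)
    | true =>
      rw [hb2] at h0
      intro d hd
      rcases List.mem_cons.1 hd with rfl | hd
      · exact Nat.eq_of_beq_eq_true hb2
      · exact chkR_spec L h0 d hd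

/-! ### the count -/

/-- conjugates of `gx` -/
noncomputable def cj (g : H0) : H0 := g * gx * g⁻¹

theorem cj_mul (g h : H0) : cj (g * h) = g * cj h * g⁻¹ := by
  unfold cj; group

theorem hw_cw (c : List ℕ) : hw (cw c) = cj (hw c) := by
  rw [cw, hw_append, hw_append, hw_iw, hw_x]; rfl

theorem okw_cw {c : List ℕ} (h : okw c = true) : okw (cw c) = true :=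
  okw_append (okw_append h rfl) (okw_iw h)

/-- the general count: if `i ↦ (w i) x (w i)⁻¹` is injective -/
theorem card_mul_le {I : Type} [Finite I] (w : I → H0) (hw : Function.Injective fun i => cj (w i)) :
    Nat.card I * Nat.card (Subgroup.centralizer {gx}) ≤ Nat.card H0 := by
  rw [← Nat.card_prod]
  refine Nat.card_le_card_of_injective
    (fun z : I × Subgroup.centralizer {gx} => w z.1 * z.2.1) ?_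
  rintro ⟨i, u⟩ ⟨j, v⟩ h
  have h' : w i * (u : H0) = w j * (v : H0) := h
  have key : ∀ (a : H0) (u : Subgroup.centralizer {gx}), cj (a * u) = cj a := by
    intro a u
    have hu' : gx * (u : H0) = u * gx := Subgroup.mem_centralizer_iff.1 u.2 _ rfl
    unfold cj
    calc a * u * gx * (a * u)⁻¹ = a * (u * gx) * (u : H0)⁻¹ * a⁻¹ := by group
      _ = a * gx * a⁻¹ := by rw [← hu']; group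
  have h1 : cj (w i) = cj (w j) := by rw [← key (w i) u, ← key (w j) v, h']
  have h2 : i = j := hw h1
  subst h2
  rw [Subtype.ext (mul_left_cancel h')]

/-- the image of the point `0` under the conjugate -/
theorem φ_cj {q : ℕ} {r c : List ℕ} (hr : tl r 0 = 0) (hc : tl (cw c) 0 = q) :
    ((φ (cj (hw r * hw c)) (0 : Fin 100) : Fin 100) : ℕ) = tl r q := by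
  have e0 : φ (hw r) (0 : Fin 100) = 0 := Fin.ext (by rw [φ_hw_apply]; exact hr)
  have e1 : (φ (hw r))⁻¹ (0 : Fin 100) = 0 := by rw [Perm.inv_eq_iff_eq, e0]
  have e2 : ((φ (cj (hw c)) (0 : Fin 100) : Fin 100) : ℕ) = q := by
    rw [← hw_cw, φ_hw_apply]
    exact hc
  rw [cj_mul, map_mul, map_mul, map_inv, Perm.mul_apply, Perm.mul_apply, e1, φ_hw_apply, e2]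

/-- the words of a block -/
def wd (R L : List (List ℕ)) (z : Fin R.length × Fin L.length) : H0 := hw (R.get z.1) * hw (L.get z.2)

theorem φ_wd {q : ℕ} {R L : List (List ℕ)} (hR : chkR R = true) (hL : chkL q L = true)
    (z : Fin R.length × Fin L.length) :
    ((φ (cj (wd R L z)) (0 : Fin 100) : Fin 100) : ℕ) = tl (R.get z.1) q :=
  φ_cj (chkR_spec R hR _ (List.get_mem R z.1)) (chkL_spec L hL _ (List.get_mem L z.2)).2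

theorem wd_inj {q : ℕ} {R L : List (List ℕ)} (hR : chkR R = true) (hL : chkL q L = true)
    (hn : (R.map fun w => tl w q).Nodup) (hi : incr L 0 = true)
    {z z' : Fin R.length × Fin L.length} (h : cj (wd R L z) = cj (wd R L z')) : z = z' := by
  obtain ⟨i, j⟩ := z
  obtain ⟨i', j'⟩ := z'
  have e1 : tl (R.get i) q = tl (R.get i') q := by
    rw [← φ_wd hR hL (i, j), ← φ_wd hR hL (i', j'), h]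
  have e2 : i = i' := by
    have hinj := List.nodup_iff_injective_get.1 hn
    have hlen : (R.map fun w => tl w q).length = R.length := List.length_map _
    have h11 : (Fin.cast hlen.symm i) = (Fin.cast hlen.symm i') := by
      apply hinj
      simpa using e1
    simpa [Fin.ext_iff] using h11
  subst e2
  have e3 : cj (hw (L.get j)) = cj (hw (L.get j')) := by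
    have h' : cj (hw (R.get i) * hw (L.get j)) = cj (hw (R.get i) * hw (L.get j')) := h
    rw [cj_mul, cj_mul] at h'
    exact mul_left_cancel (mul_right_cancel h')
  have e4 : key (cw (L.get j)) = key (cw (L.get j')) := by
    rw [← hw_cw, ← hw_cw] at e3
    have ok1 := okw_cw (chkL_spec L hL _ (List.get_mem L j)).1
    have ok2 := okw_cw (chkL_spec L hL _ (List.get_mem L j')).1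
    have tre : ∀ p < 1408, tr (cw (L.get j)) p = tr (cw (L.get j')) p := by
      intro p hp
      by_contra hne
      exact hw_ne ok1 ok2 hp hne e3
    unfold key
    rw [tre _ (by norm_num), tre _ (by norm_num), tre _ (by norm_num)]
  have e5 : j = j' := by
    have hinj := List.nodup_iff_injective_get.1 (incr_spec L 0 hi).2
    have hlen : (L.map fun c => key (cw c)).length = L.length := List.length_map _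
    have h11 : (Fin.cast hlen.symm j) = (Fin.cast hlen.symm j') := by
      apply hinj
      simpa using e4
    simpa [Fin.ext_iff] using h11
  rw [e5]

/-- **`x` has at least `30800` conjugates.** -/
theorem card_mul_gx : 30800 * Nat.card (Subgroup.centralizer ({gx} : Set H0)) ≤ Nat.card H0 := by
  have hnd := List.nodup_append.1 nodup_R
  have h := card_mul_le (I := (Fin R1.length × Fin L1.length) ⊕ (Fin R2.length × Fin L2.length))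
    (Sum.elim (wd R1 L1) (wd R2 L2)) ?_
  · rw [Nat.card_sum, Nat.card_prod, Nat.card_prod, Nat.card_eq_fintype_card, Nat.card_eq_fintype_card,
      Nat.card_eq_fintype_card, Nat.card_eq_fintype_card, Fintype.card_fin, Fintype.card_fin, Fintype.card_fin,
      Fintype.card_fin, len_R1, len_L1, len_R2, len_L2] at h
    exact h
  · have hne : ∀ (z : Fin R1.length × Fin L1.length) (z' : Fin R2.length × Fin L2.length),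
        cj (wd R1 L1 z) ≠ cj (wd R2 L2 z') := by
      intro z z' h
      have h1 := φ_wd chkR_R1 chkL_L1 z
      rw [h, φ_wd chkR_R2 chkL_L2 z'] at h1
      exact hnd.2.2 _ (List.mem_map.2 ⟨_, List.get_mem R1 z.1, rfl⟩) _
        (List.mem_map.2 ⟨_, List.get_mem R2 z'.1, rfl⟩) h1.symm
    rintro (z | z) (z' | z') h
    · exact congrArg Sum.inl (wd_inj chkR_R1 chkL_L1 hnd.1 incr_L1 h)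
    · exact absurd h (hne z z')
    · exact absurd h.symm (hne z' z)
    · exact congrArg Sum.inr (wd_inj chkR_R2 chkL_L2 hnd.2.1 incr_L2 h)

/-- **(D)** -/
theorem card_gx : Nat.card (Subgroup.centralizer ({gx} : Set H0)) ≤ 5760 := by
  have h := card_mul_gx
  rw [Cfsg.Agent.HN.H0Basic.card_H0] at h
  omega

end Cfsg.Agent.H789.Ore.HNgx
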