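import Cfsg.Agent.H981.Ore.HNT1
import Cfsg.Agent.H315.PwHN
import Cfsg.Agent.H253.Ore.HNTwentyFive
import Cfsg.Agent.H789.Ore.HNgx
import Cfsg.Agent.HN.Syl

/-!
# ORE (S2443), row `HN`, piece (F) (helper789): elements of composite order without a power conjugate to `W0`

* `cent_le_of`: `|C(g)| ≤ 10249`, or `g` has order 9, or order 25 (and is real), from the bounds for the elements of
  order 3 and 5 of `H0` and for the elements of order divisible by 15.
-/

set_option autoImplicit false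

namespace Cfsg.Agent.H789.Ore.HNComp

open Subgroup Cfsg Cfsg.Agent
open Cfsg.Agent.HN.Pres (H0 gx)
open Cfsg.Agent.HN.NormalH (ψ H)
open Cfsg.Agent.HN.H0Basic (τ)
open Cfsg.Agent.HN.XWords (W0)
open Cfsg.Agent.H513.HNTau (conj_of_tau order_of_conj)

/-! ### 3-elements and 5-elements -/

theorem pow_form {G : Type*} [Group G] {Q : Subgroup G} {F : G} (hF : ∀ (s : ℤ), ∀ q ∈ Q, F ^ s * q * (F ^ s)⁻¹ ∈ Q)
    {q : G} (hq : q ∈ Q) (s : ℤ) (n : ℕ) : ∃ q' ∈ Q, (q * F ^ s) ^ n = q' * F ^ (s * n) := by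
  induction n with
  | zero => exact ⟨1, one_mem _, by simp⟩
  | succ n ih =>
    obtain ⟨q', hq', h⟩ := ih
    refine ⟨q' * (F ^ (s * n) * q * (F ^ (s * n))⁻¹), mul_mem hq' (hF _ _ hq), ?_⟩
    rw [pow_succ, h]
    have : F ^ (s * ((n + 1 : ℕ) : ℤ)) = F ^ (s * n) * F ^ s := by
      rw [← zpow_add]; congr 1; push_cast; ring
    rw [this]
    group

/-- elements `q F^s` have order dividing `p²` -/
theorem pow_sq_eq {G : Type*} [Group G] {Q : Subgroup G} {F : G} {p : ℕ}
    (hF : ∀ (s : ℤ), ∀ q ∈ Q, F ^ s * q * (F ^ s)⁻¹ ∈ Q) (hFp : F ^ p = 1) (hQ : ∀ q ∈ Q, q ^ p = 1)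
    {q : G} (hq : q ∈ Q) (s : ℤ) : (q * F ^ s) ^ (p * p) = 1 := by
  obtain ⟨q', hq', h⟩ := pow_form hF hq s p
  have h1 : F ^ (s * (p : ℤ)) = 1 := by rw [mul_comm, zpow_mul, zpow_natCast, hFp, one_zpow]
  rw [pow_mul, h, h1, mul_one, hQ _ hq']

/-- a `p`-element is conjugate into a given Sylow `p`-subgroup -/
theorem exists_conj {G : Type*} [Group G] [Finite G] {p : ℕ} [Fact p.Prime] {P : Subgroup G} (hP : IsPGroup p ↥P)
    (hi : ¬ p ∣ P.index) {g : G} {n : ℕ} (hg : g ^ p ^ n = 1) : ∃ x : G, x * g * x⁻¹ ∈ P := by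
  have h1 : IsPGroup p (zpowers g) := by
    rintro ⟨_, m, rfl⟩
    refine ⟨n, Subtype.ext ?_⟩
    change (g ^ m) ^ p ^ n = 1
    rw [← zpow_natCast, ← zpow_mul, mul_comm, zpow_mul, zpow_natCast, hg, one_zpow]
  obtain ⟨Q, hQ⟩ := h1.exists_le_sylow
  obtain ⟨x, hx⟩ := MulAction.exists_smul_eq G Q (hP.toSylow hi)
  have h2 : (Q : Subgroup G).map (MulAut.conj x).toMonoidHom = P := by
    have := congrArg (fun S : Sylow p G => (S : Subgroup G)) hx
    exact this
  refine ⟨x, ?_⟩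
  rw [← h2]
  exact ⟨g, hQ (mem_zpowers g), rfl⟩

theorem conj_pow_eq {G : Type*} [Group G] {x g : G} {m : ℕ} (h : (x * g * x⁻¹) ^ m = 1) : g ^ m = 1 := by
  rw [conj_pow] at h
  exact conj_eq_one_iff.1 h

/-- 3-elements of HN have order dividing 9 -/
theorem pow_nine {g : Spor.HN} {n : ℕ} (hg : g ^ 3 ^ n = 1) : g ^ 9 = 1 := by
  have h3 : Fact (Nat.Prime 3) := ⟨Nat.prime_three⟩
  obtain ⟨x, q, hq, s, hs⟩ := exists_conj H285.HN3.isPGroup_P H285.HN3.index_P hg
  apply conj_pow_eq (x := x)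
  rw [hs]
  exact pow_sq_eq (p := 3) H285.HN3.Fz_Q H285.HN3.e_f3 (H285.HN3.ext.pow_eq_one (by decide)) hq s

/-- 5-elements of HN have order dividing 25 -/
theorem pow_twentyfive {g : Spor.HN} {n : ℕ} (hg : g ^ 5 ^ n = 1) : g ^ 25 = 1 := by
  have h5 : Fact (Nat.Prime 5) := ⟨by norm_num⟩
  have hfin : Finite Spor.HN := Cfsg.Agent.H315.PwHN.fin
  obtain ⟨x, q, hq, s, hs⟩ := exists_conj H981.InvHN.isPGroup_P H981.InvHN.index_P hg
  apply conj_pow_eq (x := x)
  rw [hs]
  exact pow_sq_eq (p := 5) H981.InvHN.Fz_Q H981.InvHN.F5 (H839.Rad.HN.ext.pow_eq_one (by decide)) hq s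

/-! ### centralizers -/

/-- abbreviation for the order of the centralizer -/
noncomputable abbrev cn {G : Type*} [Group G] (g : G) : ℕ := Nat.card ↥(centralizer ({g} : Set G))

theorem cn_pow {G : Type*} [Group G] [Finite G] (g : G) (n : ℕ) : cn g ≤ cn (g ^ n) := by
  refine Nat.card_le_card_of_injective (Subgroup.inclusion ?_) (Subgroup.inclusion_injective _)
  intro x hx
  exact mem_centralizer_singleton_iff.2 ((Commute.pow_right (mem_centralizer_singleton_iff.1 hx) n))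

theorem exists_pow {G : Type*} [Group G] {g : G} {p : ℕ} (hp : p ∣ orderOf g) (h0 : orderOf g ≠ 0) :
    orderOf (g ^ (orderOf g / p)) = p := by
  obtain ⟨k, hk⟩ := hp
  have hp0 : p ≠ 0 := by rintro rfl; exact h0 (by rw [hk, zero_mul])
  have hk0 : k ≠ 0 := by rintro rfl; exact h0 (by rw [hk, mul_zero])
  rw [orderOf_pow' _ (by rw [hk, Nat.mul_div_cancel_left _ (Nat.pos_of_ne_zero hp0)]; exact hk0)]
  rw [hk, Nat.mul_div_cancel_left _ (Nat.pos_of_ne_zero hp0), Nat.gcd_mul_left_left,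
    Nat.mul_div_cancel _ (Nat.pos_of_ne_zero hk0)]

/-- even order -/
theorem even_case (hE3 : ∀ s : H0, orderOf s = 3 → cn s ≤ 10249) (hE5 : ∀ s : H0, orderOf s = 5 → cn s ≤ 10249)
    {g : Spor.HN} (h2 : 2 ∣ orderOf g) (hne : orderOf g ≠ 2) (hW : ∀ n : ℕ, ¬ IsConj (g ^ n) W0) : cn g ≤ 10249 := by
  have hfin : Finite Spor.HN := Cfsg.Agent.H315.PwHN.fin
  have hfin0 := Cfsg.Agent.HN.H0Basic.finite_H0
  set t := g ^ (orderOf g / 2) with ht
  have h0 : orderOf g ≠ 0 := (orderOf_pos g).ne'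
  have ho : orderOf t = 2 := exists_pow h2 h0
  have htx : t * g = g * t := ((Commute.refl g).pow_left _).eq
  have htau : IsConj (ψ τ) t := by
    rcases KFacts.HN.Classes.inv_class ho with h | h
    · exact h.symm
    · exact absurd h (hW _)
  obtain ⟨c, y, hc, hy⟩ := conj_of_tau htau htx
  -- the centralizer of `g` lies in the centralizer of `t`
  have h1 : cn g = cn y := by
    rw [cn, cn, ← H513.HNTau.card_inf hc hy]
    have : centralizer ({g} : Set Spor.HN) ⊓ centralizer ({t} : Set Spor.HN) = centralizer ({g} : Set Spor.HN) := by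
      refine inf_eq_left.2 fun v hv => mem_centralizer_singleton_iff.2 ?_
      exact ((Commute.pow_right (mem_centralizer_singleton_iff.1 hv) _)).eq
    rw [this]
  have h3 : orderOf y = orderOf g := order_of_conj hy
  have h4 : y ^ (orderOf y / 2) = τ := by
    apply Cfsg.Agent.KFacts.HN.emb.inj
    rw [map_pow, ← hy, conj_pow, h3, ← hc]
  rw [h1]
  rw [← h3] at h2 hne h0
  generalize y = y at *
  by_cases h44 : 4 ∣ orderOf y
  · obtain ⟨k, hk⟩ := h44
    have h5 : (y ^ k) ^ 2 = τ := by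
      rw [← pow_mul, ← h4, hk]
      congr 1
      omega
    have h6 := Cfsg.Agent.HN.Syl.isConj_of_sq_eq_τ h5
    obtain ⟨d, hd⟩ := isConj_iff.1 h6
    refine (cn_pow y k).trans ?_
    rw [← hd, cn, H513.HNH0.card_cent_conj]
    exact HNgx.card_gx.trans (by norm_num)
  · obtain ⟨m, hm⟩ := h2
    have hm1 : m ≠ 1 := by rintro rfl; exact hne hm
    obtain ⟨p, hp, hpm⟩ := Nat.exists_prime_and_dvd hm1
    have hpo : orderOf (y ^ (orderOf y / p)) = p := exists_pow (hm ▸ hpm.mul_left 2) h0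
    have hpd : p ∣ 177408000 := by
      rw [← Cfsg.Agent.HN.H0Basic.card_H0, ← hpo]
      exact orderOf_dvd_natCard _
    have hp2 : p ≠ 2 := by
      rintro rfl
      apply h44
      rw [hm]
      exact mul_dvd_mul_left 2 hpm
    have hcases : p = 3 ∨ p = 5 ∨ p = 7 ∨ p = 11 := by
      have hd2 : p ∣ 2 ^ 11 * (3 ^ 2 * (5 ^ 3 * (7 * 11))) := hpd.trans (dvd_of_eq (by norm_num))
      rcases hp.dvd_mul.1 hd2 with h | h
      · exact absurd ((Nat.prime_dvd_prime_iff_eq hp Nat.prime_two).1 (hp.dvd_of_dvd_pow h)) hp2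
      rcases hp.dvd_mul.1 h with h | h
      · exact Or.inl ((Nat.prime_dvd_prime_iff_eq hp Nat.prime_three).1 (hp.dvd_of_dvd_pow h))
      rcases hp.dvd_mul.1 h with h | h
      · exact Or.inr (Or.inl ((Nat.prime_dvd_prime_iff_eq hp (by norm_num)).1 (hp.dvd_of_dvd_pow h)))
      rcases hp.dvd_mul.1 h with h | h
      · exact Or.inr (Or.inr (Or.inl ((Nat.prime_dvd_prime_iff_eq hp (by norm_num)).1 h)))
      · exact Or.inr (Or.inr (Or.inr ((Nat.prime_dvd_prime_iff_eq hp (by norm_num)).1 h)))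
    refine (cn_pow y (orderOf y / p)).trans ?_
    rcases hcases with rfl | rfl | rfl | rfl
    · exact hE3 _ hpo
    · exact hE5 _ hpo
    · rw [cn, H513.HNTau.card_seven' hpo]; norm_num
    · rw [cn, H513.HNTau.card_eleven' hpo]; norm_num

theorem prime_cases {p : ℕ} (hp : p.Prime) (hd : p ∣ 273030912000000) :
    p = 2 ∨ p = 3 ∨ p = 5 ∨ p = 7 ∨ p = 11 ∨ p = 19 := by
  have hd2 : p ∣ 2 ^ 14 * (3 ^ 6 * (5 ^ 6 * (7 * (11 * 19)))) := hd.trans (dvd_of_eq (by norm_num))
  rcases hp.dvd_mul.1 hd2 with h | h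
  · exact Or.inl ((Nat.prime_dvd_prime_iff_eq hp Nat.prime_two).1 (hp.dvd_of_dvd_pow h))
  rcases hp.dvd_mul.1 h with h | h
  · exact Or.inr (Or.inl ((Nat.prime_dvd_prime_iff_eq hp Nat.prime_three).1 (hp.dvd_of_dvd_pow h)))
  rcases hp.dvd_mul.1 h with h | h
  · exact Or.inr (Or.inr (Or.inl ((Nat.prime_dvd_prime_iff_eq hp (by norm_num)).1 (hp.dvd_of_dvd_pow h))))
  rcases hp.dvd_mul.1 h with h | h
  · exact Or.inr (Or.inr (Or.inr (Or.inl ((Nat.prime_dvd_prime_iff_eq hp (by norm_num)).1 h))))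
  rcases hp.dvd_mul.1 h with h | h
  · exact Or.inr (Or.inr (Or.inr (Or.inr (Or.inl ((Nat.prime_dvd_prime_iff_eq hp (by norm_num)).1 h)))))
  · exact Or.inr (Or.inr (Or.inr (Or.inr (Or.inr ((Nat.prime_dvd_prime_iff_eq hp (by norm_num)).1 h)))))

/-- a number `n > 1` without a prime divisor other than `p` -/
theorem eq_pow_of {n p : ℕ} (hn : n ≠ 0) (h : ∀ q : ℕ, q.Prime → q ∣ n → q = p) : ∃ k, n = p ^ k :=
  ⟨_, (Nat.eq_prime_pow_of_unique_prime_dvd hn fun {q} hq hd => h q hq hd)⟩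

/-- **(F)**, from the bounds (E) and the elements of order divisible by 15 -/
theorem cent_le_of (hE3 : ∀ s : H0, orderOf s = 3 → cn s ≤ 10249) (hE5 : ∀ s : H0, orderOf s = 5 → cn s ≤ 10249)
    (h15 : ∀ g : Spor.HN, 15 ∣ orderOf g → cn g ≤ 10249) (g : Spor.HN) (h1 : g ≠ 1) (hp : ¬ (orderOf g).Prime)
    (hW : ∀ n : ℕ, ¬ IsConj (g ^ n) W0) :
    cn g ≤ 10249 ∨ orderOf g = 9 ∨ (orderOf g = 25 ∧ ∃ b : Spor.HN, b * g * b⁻¹ = g⁻¹) := by
  have hfin : Finite Spor.HN := Cfsg.Agent.H315.PwHN.fin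
  have h0 : orderOf g ≠ 0 := (orderOf_pos g).ne'
  have hone : orderOf g ≠ 1 := fun h => h1 (orderOf_eq_one_iff.1 h)
  by_cases h2 : 2 ∣ orderOf g
  · left
    refine even_case hE3 hE5 h2 ?_ hW
    intro h
    exact hp (h ▸ Nat.prime_two)
  have hd : ∀ q : ℕ, q ∣ orderOf g → q ∣ 273030912000000 := by
    intro q hq
    rw [← KFacts.HN.Classes.card_HN]
    exact hq.trans (orderOf_dvd_natCard g)
  by_cases h19 : 19 ∣ orderOf g
  · left
    refine (cn_pow g _).trans ((H315.PwHN.card_nineteen (exists_pow h19 h0)).le.trans (by norm_num))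
  by_cases h11 : 11 ∣ orderOf g
  · left
    refine (cn_pow g _).trans ((H315.PwHN.card_eleven (exists_pow h11 h0)).le.trans (by norm_num))
  by_cases h7 : 7 ∣ orderOf g
  · left
    refine (cn_pow g _).trans ((Nat.le_of_dvd (by norm_num) (H513.HNSeven.cent_seven (exists_pow h7 h0))).trans
      (by norm_num))
  by_cases h3 : 3 ∣ orderOf g
  · by_cases h5 : 5 ∣ orderOf g
    · left
      exact h15 g (Nat.Coprime.mul_dvd_of_dvd_of_dvd (by norm_num) h3 h5)
    · obtain ⟨k, hk⟩ := eq_pow_of (p := 3) h0 fun q hq hqd => by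
        rcases prime_cases hq (hd q hqd) with rfl | rfl | rfl | rfl | rfl | rfl
        · exact absurd hqd h2
        · rfl
        · exact absurd hqd h5
        · exact absurd hqd h7
        · exact absurd hqd h11
        · exact absurd hqd h19
      have h9 := pow_nine (g := g) (n := k) (by rw [← hk]; exact pow_orderOf_eq_one g)
      have h10 := orderOf_dvd_of_pow_eq_one h9
      right; left
      have : orderOf g ∈ Nat.divisors 9 := Nat.mem_divisors.2 ⟨h10, by norm_num⟩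
      rw [show Nat.divisors 9 = {1, 3, 9} by decide +kernel] at this
      simp only [Finset.mem_insert, Finset.mem_singleton] at this
      rcases this with h | h | h
      · exact absurd h hone
      · exact absurd (h ▸ Nat.prime_three) hp
      · exact h
  · obtain ⟨k, hk⟩ := eq_pow_of (p := 5) h0 fun q hq hqd => by
      rcases prime_cases hq (hd q hqd) with rfl | rfl | rfl | rfl | rfl | rfl
      · exact absurd hqd h2
      · exact absurd hqd h3
      · rfl
      · exact absurd hqd h7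
      · exact absurd hqd h11
      · exact absurd hqd h19
    have h9 := pow_twentyfive (g := g) (n := k) (by rw [← hk]; exact pow_orderOf_eq_one g)
    have h10 := orderOf_dvd_of_pow_eq_one h9
    right; right
    have : orderOf g ∈ Nat.divisors 25 := Nat.mem_divisors.2 ⟨h10, by norm_num⟩
    rw [show Nat.divisors 25 = {1, 5, 25} by decide +kernel] at this
    simp only [Finset.mem_insert, Finset.mem_singleton] at this
    rcases this with h | h | h
    · exact absurd h hone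
    · exact absurd (h ▸ (by norm_num : Nat.Prime 5)) hp
    · exact ⟨h, H253.Ore.HN25.real_25 h⟩

end Cfsg.Agent.H789.Ore.HNComp
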