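import Cfsg.Agent.H789.Ore.HNFif
import Cfsg.Agent.H678.HNT.Cent

/-!
# ORE (S2443), row `HN` (helper789): `C(X1) = ⟨X1⟩ × A9` in the form needed in `HNFif`
-/

set_option autoImplicit false

namespace Cfsg.Agent.H789.Ore.HNFif

open Subgroup Cfsg Cfsg.Agent
open Cfsg.Agent.CpAutHN.Alt
open Cfsg.Agent.CpAutHN.Pairs
open Cfsg.Agent.CpAutHN.Second

theorem main : Main := by
  intro h hc
  obtain ⟨i, a, e⟩ := H678.HNT.Cent.main ⟨h, mem_centralizer_singleton_iff.2 hc⟩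
  refine ⟨i, a, ?_⟩
  have := congrArg Subtype.val e
  rw [Subgroup.coe_mul, Subgroup.coe_zpow, Ψ_coe] at this
  exact this

end Cfsg.Agent.H789.Ore.HNFif
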