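import Cfsg.Agent.H789.Ore.HNComp
import Cfsg.Agent.H789.Ore.HNMain
import Cfsg.Agent.H692.Ore.HNE
import Cfsg.Agent.H728.Four.HNThreeComm

/-!
# ORE (S2443), row `HN`, piece (F) (helper789): the centralizers of the elements of composite order

* `card_fifteen` : `|C(x)| ≤ 9720` if `15` divides the order of `x`;
* `cent_le` : `|C(g)| ≤ 10249` for `g ≠ 1` of composite order without a power conjugate to `W0`, unless `g` has order 9, or
  order 25 (and is real).
-/

set_option autoImplicit false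

namespace Cfsg.Agent.H789.Ore.HNCent

open Subgroup Cfsg Cfsg.Agent
open Cfsg.Agent.HN.XWords (W0)

/-- **elements of order divisible by 15** -/
theorem card_fifteen {x : Spor.HN} (hx : 15 ∣ orderOf x) : Nat.card ↥(centralizer ({x} : Set Spor.HN)) ≤ 9720 :=
  HNFif.card_fifteen HNFif.main (fun a ha => H728.Four.HN3C.comm_inv (by rw [← ha]; exact pow_orderOf_eq_one a)) hx

/-- **(F)** -/
theorem cent_le (g : Spor.HN) (h1 : g ≠ 1) (hp : ¬ (orderOf g).Prime) (hW : ∀ n : ℕ, ¬ IsConj (g ^ n) W0) :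
    Nat.card ↥(centralizer ({g} : Set Spor.HN)) ≤ 10249 ∨ orderOf g = 9 ∨
      (orderOf g = 25 ∧ ∃ b : Spor.HN, b * g * b⁻¹ = g⁻¹) :=
  HNComp.cent_le_of (fun _ h => (H692.Ore.HNE.cent_le (Or.inl h)).trans (by norm_num))
    (fun _ h => (H692.Ore.HNE.cent_le (Or.inr h)).trans (by norm_num))
    (fun _ h => (card_fifteen h).trans (by norm_num)) g h1 hp hW

end Cfsg.Agent.H789.Ore.HNCent
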